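import Cfsg.Agent.Lib.PermAut.MclPsuData
import Cfsg.Agent.Lib.PermAut.MclRecog.Data

/-!
# Checks on the graph of the McLaughlin group
-/

set_option autoImplicit false
set_option maxRecDepth 100000
set_option Elab.async false

namespace Cfsg.Lib.PermAut.MclRecog

/-- The row of a point. -/
def row (x : ℕ) : ℕ := rowsL.getD x 0

/-- Adjacency. -/
def adj (x y : ℕ) : Bool := (row x).testBit y

/-- The points at distance two from the base point. -/
def inC (x : ℕ) : Bool := !(bMask.testBit x) && !(Nat.beq x 38)

/-- The common part with the 112 of the row of a point. -/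
def hmask (x : ℕ) : ℕ := Nat.land (row x) bMask

/-- A table preserves the graph. -/
noncomputable def presB (T : ℕ) : Bool :=
  allBelowB 275 fun x => force (row x) fun r => force (row (ent 9 T x)) fun r' =>
    allBelowB 275 fun y => r.testBit y == r'.testBit (ent 9 T y)

theorem pres_a : presB Mcl.cert.a = true := by decide +kernel

theorem pres_c : presB Mcl.cert.c = true := by decide +kernel

theorem pres_d : presB Mcl.cert.d = true := by decide +kernel

/-- The neighbours of the base point. -/
noncomputable def nbrB : Bool :=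
  (force (row 38) fun r => allBelowB 275 fun y => r.testBit y == bMask.testBit y) &&
  (allBelowB 275 fun y => !(bMask.testBit y) || bl.any fun v => Nat.beq v y) &&
  (bl.all fun v => Nat.blt v 275 && bMask.testBit v && adj v 38) && nodupB bl && Nat.beq bl.length 112 &&
  !(bMask.testBit 38) && Nat.beq ((List.range 275).filter inC).length 162

theorem nbr_ok : nbrB = true := by decide +kernel

/-- Words move the start to each point of an orbit fixing some point. -/
noncomputable def wordsB (start : ℕ) (fixed : List ℕ) (w : List (ℕ × List ℕ)) : Bool :=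
  w.all fun e =>
    Nat.beq (ev 9 (e.2.map fun i => if Nat.beq i 0 then MclPsu.stabSub.g0 else MclPsu.stabSub.g1) start) e.1 &&
    fixed.all fun f =>
      Nat.beq (ev 9 (e.2.map fun i => if Nat.beq i 0 then MclPsu.stabSub.g0 else MclPsu.stabSub.g1) f) f

/-- The orbits on the 112 and the 162, and of the stabiliser of a neighbour. -/
noncomputable def orbB : Bool :=
  wordsB l0 [] wB && wordsB c0 [] wC && wordsB l1 [l0] wNear && wordsB l2 [l0] wFar &&
  (bl.all fun v => wB.any fun e => Nat.beq e.1 v) &&
  ((List.range 275).all fun y => !(inC y) || wC.any fun e => Nat.beq e.1 y) &&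
  (bl.all fun v => Nat.beq v l0 ||
    if adj l0 v then wNear.any fun e => Nat.beq e.1 v else wFar.any fun e => Nat.beq e.1 v) &&
  bl.any (fun v => Nat.beq v l0) && Nat.blt l1 275 && bMask.testBit l1 && adj l0 l1 &&
  Nat.blt c0 275 && inC c0 && Nat.beq (bl.filter fun v => adj l0 v).length 30 && Nat.blt l2 275

theorem orb_ok : orbB = true := by decide +kernel

/-- The collinearity cliques. -/
noncomputable def cliqueB : Bool :=
  clq.all fun q =>
    let a := q.1
    let b := q.2.1
    let c := q.2.2.1
    let d := q.2.2.2
    ([a, b, c, d].all fun v => bMask.testBit v && Nat.blt v 275) && nodupB [a, b, c, d] &&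
      ([(a, b, c, d), (a, c, b, d), (a, d, b, c), (b, c, a, d), (b, d, a, c), (c, d, a, b)].all fun p =>
        adj p.1 p.2.1 &&
          Nat.beq (Nat.land (Nat.land (row p.1) (row p.2.1)) bMask)
            (Nat.lor (Nat.shiftLeft 1 p.2.2.1) (Nat.shiftLeft 1 p.2.2.2)))

theorem clique_ok : cliqueB = true := by decide +kernel

/-- One clique of the search: two of its four points are in. -/
def stepS (q : ℕ × ℕ × ℕ × ℕ) (s : ℕ × ℕ) : List (ℕ × ℕ) :=
  let a := Nat.shiftLeft 1 q.1
  let b := Nat.shiftLeft 1 q.2.1
  let c := Nat.shiftLeft 1 q.2.2.1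
  let d := Nat.shiftLeft 1 q.2.2.2
  [(Nat.lor a b, Nat.lor c d), (Nat.lor a c, Nat.lor b d), (Nat.lor a d, Nat.lor b c),
    (Nat.lor b c, Nat.lor a d), (Nat.lor b d, Nat.lor a c), (Nat.lor c d, Nat.lor a b)].filterMap fun p =>
    if Nat.beq (Nat.land s.1 p.2) 0 && Nat.beq (Nat.land s.2 p.1) 0 then
      some (Nat.lor s.1 p.1, Nat.lor s.2 p.2) else none

/-- Every completion of a state passes the test. -/
noncomputable def solveB (ok : ℕ → ℕ → Bool) : List (ℕ × ℕ × ℕ × ℕ) → ℕ × ℕ → Bool
  | [], s => ok s.1 s.2
  | q :: qs, s => (stepS q s).all fun t => force t.1 fun i => force t.2 fun o => solveB ok qs (i, o)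

/-- The image of a subset of the 112 under a table. -/
noncomputable def imgM (T m : ℕ) : ℕ :=
  bl.foldl (fun acc v => if m.testBit v then Nat.lor acc (Nat.shiftLeft 1 (ent 9 T v)) else acc) 0

/-- The four orbits. -/
def clsL : List (List (ℕ × ℕ × ℕ)) := [cls0, cls1, cls2, cls3]

/-- The maps onto the first orbit. -/
def sigL : List (ℕ × ℕ) := [(sig0, sigInv0), (sig1, sigInv1), (sig2, sigInv2), (sig3, sigInv3)]

/-- A leaf lies in one of the orbits. -/
noncomputable def leafB (i o : ℕ) : Bool :=
  Nat.beq (Nat.lor i o) bMask && clsL.any fun l => l.any fun e => Nat.beq e.1 i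

/-- The states after some cliques. -/
def expandS (qs : List (ℕ × ℕ × ℕ × ℕ)) (l : List (ℕ × ℕ)) : List (ℕ × ℕ) :=
  qs.foldl (fun acc q => acc.flatMap (stepS q)) l

/-- The states after eight cliques. -/
def front : List (ℕ × ℕ) := expandS (clq.take 8) [(0, 0)]

/-- The search below some of them. -/
noncomputable def chunkB (k : ℕ) : Bool := ((front.drop (30 * k)).take 30).all (solveB leafB (clq.drop 8))

/-- An orbit given as a tree. -/
noncomputable def treeB (l : List (ℕ × ℕ × ℕ)) : Bool :=
  ((List.range l.length).all fun k => Nat.beq k 0 ||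
    (Nat.blt (l.getD k (0, 0, 0)).2.2 k && Nat.beq (l.getD k (0, 0, 0)).1
      (imgM (if Nat.beq (l.getD k (0, 0, 0)).2.1 0 then MclPsu.stabSub.g0 else MclPsu.stabSub.g1)
        (l.getD (l.getD k (0, 0, 0)).2.2 (0, 0, 0)).1))) &&
  l.all fun e => force (imgM MclPsu.stabSub.g0 e.1) fun m0 => force (imgM MclPsu.stabSub.g1 e.1) fun m1 =>
    l.any (fun f => Nat.beq f.1 m0) && l.any fun f => Nat.beq f.1 m1

theorem tree_ok : clsL.all treeB = true := by decide +kernel

/-- The first orbit consists of the rows of the 162. -/
noncomputable def rowsC : Bool :=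
  (((List.range 275).filter inC).all fun y => cls0.any fun e => Nat.beq e.1 (hmask y)) &&
  (cls0.all fun e => ((List.range 275).filter inC).any fun y => Nat.beq e.1 (hmask y)) &&
  nodupB (((List.range 275).filter inC).map hmask) &&
  (((List.range 275).filter inC).all fun y => bl.any fun v => adj y v) &&
  bl.all fun v => bl.any fun u => adj v u

theorem rowsC_ok : rowsC = true := by decide +kernel

/-- A map preserves the graph on the 112 and carries its orbit to the first. -/
noncomputable def sigB (s : ℕ × ℕ) (l : List (ℕ × ℕ × ℕ)) : Bool :=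
  invPairOk 9 275 s.1 s.2 &&
  (bl.all fun v => bMask.testBit (ent 9 s.1 v) && force (row v) fun r => force (row (ent 9 s.1 v)) fun r' =>
    bl.all fun u => r.testBit u == r'.testBit (ent 9 s.1 u)) &&
  l.all fun e => force (imgM s.1 e.1) fun m => cls0.any fun f => Nat.beq f.1 m

theorem sig_ok : all2 sigB sigL clsL = true := by decide +kernel

/-- The meets with the row of one of the 162 decide adjacency among them. -/
noncomputable def meetB : Bool :=
  force (row c0) fun r => force (hmask c0) fun m =>
    ((List.range 275).filter inC).all fun u => Nat.beq u c0 || force (Nat.land m (row u)) fun w =>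
      r.testBit u == Nat.ble (bl.filter fun v => w.testBit v).length 30

theorem meet_ok : meetB = true := by decide +kernel

/-- The profile of a point against part of the base. -/
def prof : List (ℕ × ℕ) → ℕ → ℕ
  | [], _ => 0
  | e :: es, z => (if Nat.beq z e.1 then 2 else if e.2.testBit z then 1 else 0) + 3 * prof es z

/-- The number of neighbours of given profile. -/
def cntP (P : List (ℕ × ℕ)) (k r : ℕ) : ℕ := (bl.filter fun z => r.testBit z && Nat.beq (prof P z) k).length

/-- The invariant of a point. -/
def sigP (P : List (ℕ × ℕ)) (W : List ℕ) (y : ℕ) : List ℕ := prof P y :: W.map fun k => cntP P k (row y)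

/-- The base bounds the automorphisms of the graph on the 112. -/
noncomputable def baseB : Bool :=
  Nat.beq gBR.length 7 && (gBR.all fun e => Nat.beq e.2 (row e.1) && bMask.testBit e.1 && Nat.blt e.1 275) &&
  ((List.range 7).all fun i => Nat.ble
    (bl.filter fun y => sigP (gBR.take i) (gWit.getD i []) y == sigP (gBR.take i) (gWit.getD i []) (gBR.getD i (0, 0)).1).length
    (gSize.getD i 0)) &&
  (bl.all fun y => (bl.filter fun u => sigP gBR (gWit.getD 7 []) u == sigP gBR (gWit.getD 7 []) y).length == 1) &&
  Nat.ble gSize.prod 26127360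

theorem base_ok : baseB = true := by decide +kernel

end Cfsg.Lib.PermAut.MclRecog
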