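import Cfsg.Agent.Lib.PermAut.MclRecog.Checks

/-!
# The orbits of hemisystems consist of distinct sets of neighbours
-/

set_option autoImplicit false
set_option maxRecDepth 100000
set_option Elab.async false

namespace Cfsg.Lib.PermAut.MclRecog

/-- The masks of an orbit are distinct and lie in the 112. -/
noncomputable def clsSetB (l : List (ℕ × ℕ × ℕ)) : Bool :=
  nodupB (l.map fun e => e.1) && (l.all fun e => Nat.beq (Nat.land e.1 bMask) e.1) && Nat.beq l.length 162

theorem clsSet_ok : clsL.all clsSetB = true := by decide +kernel

end Cfsg.Lib.PermAut.MclRecog
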