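import Cfsg.Agent.Lib.PermAut.MclRecog.Hemi
import Cfsg.Prelude.Def_Spor_Conway

/-!
# Rank three groups with suborbits 1, 112, 162: the parameters of the graph
-/

set_option autoImplicit false
set_option linter.unusedSectionVars false

namespace Cfsg.Lib.PermAut.MclRecog

open Cfsg MulAction Finset

variable {Ω : Type*} [Fintype Ω] [DecidableEq Ω]

/-- The orbital of a pair. -/
def Rel (G : Subgroup (Equiv.Perm Ω)) (a b x y : Ω) : Prop := ∃ g ∈ G, g a = x ∧ g b = y

/-- The hypotheses on a rank three group. -/
structure Data (G : Subgroup (Equiv.Perm Ω)) (a b c : Ω) : Prop where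
  hcard : Fintype.card Ω = 275
  trans : ∀ x : Ω, ∃ g ∈ G, g a = x
  orbB : (orbit (stabilizer G a) b).ncard = 112
  orbC : (orbit (stabilizer G a) c).ncard = 162

namespace Data

variable {G : Subgroup (Equiv.Perm Ω)} {a b c : Ω} (h : Data G a b c)
include h

theorem orbit_iff (d y : Ω) : y ∈ orbit (stabilizer G a) d ↔ Rel G a d a y := by
  constructor
  · rintro ⟨g, rfl⟩
    exact ⟨g.1.1, g.1.2, g.2, rfl⟩
  · rintro ⟨g, hg, h1, rfl⟩
    exact ⟨⟨⟨g, hg⟩, h1⟩, rfl⟩

theorem rel_smul (d : Ω) {g : Equiv.Perm Ω} (hg : g ∈ G) (x y : Ω) : Rel G a d (g x) (g y) ↔ Rel G a d x y := by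
  constructor
  · rintro ⟨k, hk, h1, h2⟩
    exact ⟨g⁻¹ * k, mul_mem (inv_mem hg) hk, by simp [h1], by simp [h2]⟩
  · rintro ⟨k, hk, rfl, rfl⟩
    exact ⟨g * k, mul_mem hg hk, rfl, rfl⟩

theorem cases (y : Ω) : y = a ∨ Rel G a b a y ∨ Rel G a c a y := by
  by_contra hy
  push_neg at hy
  obtain ⟨h0, h1, h2⟩ := hy
  have hdis : Disjoint (orbit (stabilizer G a) b) (orbit (stabilizer G a) c) := by
    refine Set.disjoint_left.2 fun z hz hz' => ?_
    have e := (orbit_eq_iff.2 hz).symm.trans (orbit_eq_iff.2 hz')
    have := congrArg Set.ncard e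
    rw [h.orbB, h.orbC] at this
    omega
  have hsing : ∀ d, a ∈ orbit (stabilizer G a) d → (orbit (stabilizer G a) d).ncard = 1 := fun d hd => by
    rw [← orbit_eq_iff.2 hd, Set.ncard_eq_one]
    refine ⟨a, Set.eq_singleton_iff_unique_mem.2 ⟨mem_orbit_self a, ?_⟩⟩
    rintro _ ⟨g, rfl⟩
    exact g.2
  have hsub : orbit (stabilizer G a) b ∪ orbit (stabilizer G a) c ⊆ (Set.univ : Set Ω) \ {a, y} := by
    intro z hz
    refine ⟨Set.mem_univ z, ?_⟩
    rintro (rfl | rfl) <;> rcases hz with hz | hz
    · have := hsing b hz; rw [h.orbB] at this; omega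
    · have := hsing c hz; rw [h.orbC] at this; omega
    · exact h1 ((h.orbit_iff b _).1 hz)
    · exact h2 ((h.orbit_iff c _).1 hz)
  have hle := Set.ncard_le_ncard hsub
  rw [Set.ncard_union_eq hdis, h.orbB, h.orbC, Set.ncard_sdiff (Set.subset_univ _), Set.ncard_univ,
    Nat.card_eq_fintype_card, h.hcard, Set.ncard_pair (Ne.symm h0)] at hle
  omega

theorem ne_of_rel {x y : Ω} (hr : Rel G a b x y) : x ≠ y := by
  obtain ⟨g, -, rfl, rfl⟩ := hr
  intro e
  have hb : (orbit (stabilizer G a) b).ncard = 1 := by
    rw [← g.injective e, Set.ncard_eq_one]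
    refine ⟨a, Set.eq_singleton_iff_unique_mem.2 ⟨mem_orbit_self a, ?_⟩⟩
    rintro _ ⟨k, rfl⟩
    exact k.2
  rw [h.orbB] at hb
  omega

open Classical in
theorem card_out (x : Ω) : (univ.filter fun y => Rel G a b x y).card = 112 := by
  obtain ⟨g, hg, rfl⟩ := h.trans x
  rw [← h.orbB, ← Set.ncard_coe_finset, ← Set.ncard_image_of_injective (orbit (stabilizer G a) b) g.injective]
  congr 1
  ext y
  simp only [coe_filter, mem_univ, true_and, Set.mem_setOf_eq, Set.mem_image, h.orbit_iff]
  constructor
  · intro hr
    exact ⟨g⁻¹ y, (h.rel_smul b hg a (g⁻¹ y)).1 (by simpa using hr), by simp⟩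
  · rintro ⟨z, hz, rfl⟩
    exact (h.rel_smul b hg a z).2 hz

open Classical in
theorem card_in : (univ.filter fun y => Rel G a b y a).card = 112 := by
  have hconst : ∀ x, (univ.filter fun y => Rel G a b y x).card = (univ.filter fun y => Rel G a b y a).card := by
    intro x
    obtain ⟨g, hg, rfl⟩ := h.trans x
    refine (Finset.card_bij (fun y _ => g y) ?_ ?_ ?_).symm
    · intro y hy
      simp only [mem_filter, mem_univ, true_and] at hy ⊢
      exact (h.rel_smul b hg y a).2 hy
    · intro y _ z _ e; exact g.injective e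
    · intro y hy
      simp only [mem_filter, mem_univ, true_and] at hy ⊢
      exact ⟨g⁻¹ y, (h.rel_smul b hg (g⁻¹ y) a).1 (by simpa using hy), by simp⟩
  have hsum : ∑ x, (univ.filter fun y => Rel G a b y x).card = ∑ y, (univ.filter fun x => Rel G a b y x).card := by
    simp only [card_filter]
    exact Finset.sum_comm
  simp only [hconst, h.card_out, sum_const, card_univ, h.hcard, smul_eq_mul] at hsum
  omega

open Classical in
theorem symm {x y : Ω} (hr : Rel G a b x y) : Rel G a b y x := by
  set S : Set Ω := {y | Rel G a b y a} with hS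
  have hScard : S.ncard = 112 := by
    rw [← h.card_in, ← Set.ncard_coe_finset]
    simp [hS]
  have hinv : ∀ z ∈ S, orbit (stabilizer G a) z ⊆ S := by
    rintro z hz _ ⟨k, rfl⟩
    have := (h.rel_smul b k.1.2 z a).2 hz
    rwa [show (k.1 : Equiv.Perm Ω) a = a from k.2] at this
  have hbS : b ∈ S := by
    obtain ⟨z, hz⟩ := Set.nonempty_of_ncard_ne_zero (show S.ncard ≠ 0 by omega)
    rcases h.cases z with rfl | h1 | h1
    · exact absurd rfl (h.ne_of_rel hz)
    · have e := orbit_eq_iff.2 ((h.orbit_iff b z).2 h1)
      exact hinv z hz (by rw [e]; exact mem_orbit_self b)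
    · have hle := Set.ncard_le_ncard (hinv z hz)
      rw [orbit_eq_iff.2 ((h.orbit_iff c z).2 h1), h.orbC, hScard] at hle
      omega
  have heq : orbit (stabilizer G a) b = S :=
    Set.eq_of_subset_of_ncard_le (hinv b hbS) (by rw [h.orbB, hScard])
  obtain ⟨g, hg, rfl, rfl⟩ := hr
  have hab : Rel G a b b a := show b ∈ S by rw [← heq]; exact mem_orbit_self b
  exact (h.rel_smul b hg b a).2 hab

open Classical in
theorem card_common {d x y : Ω} (hr : Rel G a d x y) :
    (univ.filter fun z => Rel G a b x z ∧ Rel G a b y z).card =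
      (univ.filter fun z => Rel G a b a z ∧ Rel G a b d z).card := by
  obtain ⟨g, hg, rfl, rfl⟩ := hr
  refine (Finset.card_bij (fun z _ => g z) ?_ ?_ ?_).symm
  · intro z hz
    simp only [mem_filter, mem_univ, true_and] at hz ⊢
    exact ⟨(h.rel_smul b hg a z).2 hz.1, (h.rel_smul b hg d z).2 hz.2⟩
  · intro z _ w _ e; exact g.injective e
  · intro z hz
    simp only [mem_filter, mem_univ, true_and] at hz ⊢
    exact ⟨g⁻¹ z, ⟨(h.rel_smul b hg a _).1 (by simpa using hz.1), (h.rel_smul b hg d _).1 (by simpa using hz.2)⟩,
      by simp⟩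

open Classical in
theorem count_paths : 112 * (111 - (univ.filter fun z => Rel G a b a z ∧ Rel G a b b z).card) =
    162 * (univ.filter fun z => Rel G a b a z ∧ Rel G a b c z).card := by
  set lam := (univ.filter fun z => Rel G a b a z ∧ Rel G a b b z).card
  set N := univ.filter fun y => Rel G a b a y
  set C := univ.filter fun y => Rel G a c a y
  have hC : C.card = 162 := by
    rw [← h.orbC, ← Set.ncard_coe_finset]
    congr 1
    ext z
    simp [C, h.orbit_iff]
  have hN : N.card = 112 := h.card_out a
  have h1 : ∀ y ∈ N, (C.filter fun z => Rel G a b y z).card = 111 - lam := by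
    intro y hy
    simp only [N, mem_filter, mem_univ, true_and] at hy
    have hsplit : (univ.filter fun z => Rel G a b y z) =
        insert a ((univ.filter fun z => Rel G a b a z ∧ Rel G a b y z) ∪ C.filter fun z => Rel G a b y z) := by
      ext z
      simp only [C, mem_filter, mem_univ, true_and, mem_insert, mem_union]
      constructor
      · intro hz
        rcases h.cases z with e | e | e
        · exact Or.inl e
        · exact Or.inr (Or.inl ⟨e, hz⟩)
        · exact Or.inr (Or.inr ⟨e, hz⟩)
      · rintro (rfl | ⟨-, hz⟩ | ⟨-, hz⟩)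
        · exact h.symm hy
        · exact hz
        · exact hz
    have hdis : Disjoint (univ.filter fun z => Rel G a b a z ∧ Rel G a b y z) (C.filter fun z => Rel G a b y z) := by
      rw [Finset.disjoint_left]
      intro z hz hz'
      simp only [C, mem_filter, mem_univ, true_and] at hz hz'
      have e := (orbit_eq_iff.2 ((h.orbit_iff b z).2 hz.1)).symm.trans (orbit_eq_iff.2 ((h.orbit_iff c z).2 hz'.1))
      have := congrArg Set.ncard e
      rw [h.orbB, h.orbC] at this
      omega
    have hna : a ∉ (univ.filter fun z => Rel G a b a z ∧ Rel G a b y z) ∪ C.filter fun z => Rel G a b y z := by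
      simp only [C, mem_filter, mem_univ, true_and, mem_union]
      rintro (⟨e, -⟩ | ⟨e, -⟩)
      · exact h.ne_of_rel e rfl
      · have hsing : orbit (stabilizer G a) a = {a} := by
          refine Set.eq_singleton_iff_unique_mem.2 ⟨mem_orbit_self a, ?_⟩
          rintro _ ⟨k, rfl⟩
          exact k.2
        have e' := (h.orbit_iff c a).2 e
        have := congrArg Set.ncard (orbit_eq_iff.2 e')
        rw [hsing, Set.ncard_singleton, h.orbC] at this
        omega
    have hcard := congrArg Finset.card hsplit
    rw [h.card_out, card_insert_of_notMem hna, card_union_of_disjoint hdis, h.card_common hy] at hcard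
    omega
  have h2 : ∀ z ∈ C, (N.filter fun y => Rel G a b y z).card =
      (univ.filter fun z => Rel G a b a z ∧ Rel G a b c z).card := by
    intro z hz
    simp only [C, mem_filter, mem_univ, true_and] at hz
    rw [← h.card_common hz]
    congr 1
    ext y
    simp only [N, mem_filter, mem_univ, true_and]
    exact and_congr_right fun _ => ⟨h.symm, h.symm⟩
  have hsum : ∑ y ∈ N, (C.filter fun z => Rel G a b y z).card = ∑ z ∈ C, (N.filter fun y => Rel G a b y z).card := by
    simp only [card_filter]
    exact Finset.sum_comm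
  rw [sum_congr rfl h1, sum_congr rfl h2, sum_const, sum_const, hN, hC, smul_eq_mul, smul_eq_mul] at hsum
  exact hsum

open Classical in
theorem lam_mu : (univ.filter fun z => Rel G a b a z ∧ Rel G a b b z).card = 30 ∧
    (univ.filter fun z => Rel G a b a z ∧ Rel G a b c z).card = 56 := by
  have h4 := h.count_paths
  have hab : Rel G a b a b := ⟨1, one_mem _, rfl, rfl⟩
  have hne : (univ.filter fun z => Rel G a b a z ∧ Rel G a b b z).card ≠ 111 := by
    intro hl
    set f : Ω → Finset Ω := fun x => insert x (univ.filter fun y => Rel G a b x y) with hf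
    have hfc : ∀ x, (f x).card = 113 := fun x => by
      rw [hf, card_insert_of_notMem (by simpa using fun e => h.ne_of_rel e rfl), h.card_out]
    have hsub : ∀ {x y}, Rel G a b x y → f x ⊆ f y := fun {x y} hxy z hz => by
      simp only [hf, mem_insert, mem_filter, mem_univ, true_and] at hz ⊢
      rcases hz with rfl | hz
      · exact Or.inr (h.symm hxy)
      by_cases hzy : z = y
      · exact Or.inl hzy
      right
      have hsub2 : (univ.filter fun w => Rel G a b x w ∧ Rel G a b y w) ⊆
          (univ.filter fun w => Rel G a b x w).erase y := by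
        intro w hw
        simp only [mem_filter, mem_univ, true_and] at hw
        simp only [mem_erase, mem_filter, mem_univ, true_and]
        exact ⟨(h.ne_of_rel hw.2).symm, hw.1⟩
      have heq := Finset.eq_of_subset_of_card_le hsub2 (by
        rw [card_erase_of_mem (by simp [hxy]), h.card_out, h.card_common hxy, hl])
      have hzmem : z ∈ (univ.filter fun w => Rel G a b x w).erase y := by simp [hzy, hz]
      rw [← heq] at hzmem
      simp only [mem_filter, mem_univ, true_and] at hzmem
      exact hzmem.2
    have hfeq : ∀ {x y}, y ∈ f x → f y = f x := fun {x y} hy => by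
      simp only [hf, mem_insert, mem_filter, mem_univ, true_and] at hy
      rcases hy with rfl | hy
      · rfl
      · exact le_antisymm (hsub (h.symm hy)) (hsub hy)
    have hcount := Finset.card_eq_sum_card_image f (univ : Finset Ω)
    have h113 : ∀ B ∈ univ.image f, (univ.filter fun y => f y = B).card = 113 := by
      intro B hB
      obtain ⟨x, -, rfl⟩ := mem_image.1 hB
      rw [← hfc x]
      congr 1
      ext y
      simp only [mem_filter, mem_univ, true_and]
      exact ⟨fun e => e ▸ mem_insert_self _ _, hfeq⟩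
    rw [sum_congr rfl h113, sum_const, card_univ, h.hcard, smul_eq_mul] at hcount
    omega
  have hle : (univ.filter fun z => Rel G a b a z ∧ Rel G a b b z).card ≤ 111 := by
    have hle := card_le_card (s := univ.filter fun z => Rel G a b a z ∧ Rel G a b b z)
      (t := (univ.filter fun z => Rel G a b a z).erase b) fun z hz => by
        simp only [mem_filter, mem_univ, true_and] at hz
        simp only [mem_erase, mem_filter, mem_univ, true_and]
        exact ⟨(h.ne_of_rel hz.2).symm, hz.1⟩
    rwa [card_erase_of_mem (by simp [hab]), h.card_out] at hle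
  omega

theorem rel_self (x : Ω) : ¬ Rel G a b x x := fun e => h.ne_of_rel e rfl

theorem disjoint_BC {z : Ω} (h1 : Rel G a b a z) (h2 : Rel G a c a z) : False := by
  have e := (orbit_eq_iff.2 ((h.orbit_iff b z).2 h1)).symm.trans (orbit_eq_iff.2 ((h.orbit_iff c z).2 h2))
  have := congrArg Set.ncard e
  rw [h.orbB, h.orbC] at this
  omega

theorem C_ne {z : Ω} (h2 : Rel G a c a z) : z ≠ a := by
  rintro rfl
  have hsing : orbit (stabilizer G z) z = {z} := by
    refine Set.eq_singleton_iff_unique_mem.2 ⟨mem_orbit_self z, ?_⟩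
    rintro _ ⟨k, rfl⟩
    exact k.2
  have e' := (h.orbit_iff c z).2 h2
  have := congrArg Set.ncard (orbit_eq_iff.2 e')
  rw [hsing, Set.ncard_singleton, h.orbC] at this
  omega

open Classical in
/-- Neighbours of a point split along the three orbits. -/
theorem split (p : Ω → Prop) [DecidablePred p] : (univ.filter p).card = (if p a then 1 else 0) +
    (univ.filter fun z => Rel G a b a z ∧ p z).card + (univ.filter fun z => Rel G a c a z ∧ p z).card := by
  have e : univ.filter p = (({a} : Finset Ω).filter p) ∪
      ((univ.filter fun z => Rel G a b a z ∧ p z) ∪ (univ.filter fun z => Rel G a c a z ∧ p z)) := by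
    ext z
    simp only [mem_filter, mem_univ, true_and, mem_union, mem_singleton]
    constructor
    · intro hp
      rcases h.cases z with e | e | e
      · exact Or.inl ⟨e, hp⟩
      · exact Or.inr (Or.inl ⟨e, hp⟩)
      · exact Or.inr (Or.inr ⟨e, hp⟩)
    · rintro (⟨-, hp⟩ | ⟨-, hp⟩ | ⟨-, hp⟩) <;> exact hp
  rw [e, card_union_of_disjoint, card_union_of_disjoint, filter_singleton]
  · split <;> simp [add_assoc]
  · rw [Finset.disjoint_left]
    intro z h1 h2
    simp only [mem_filter, mem_univ, true_and] at h1 h2
    exact h.disjoint_BC h1.1 h2.1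
  · rw [Finset.disjoint_left]
    intro z h1 h2
    simp only [mem_filter, mem_singleton] at h1
    simp only [mem_filter, mem_univ, true_and, mem_union] at h2
    obtain ⟨rfl, -⟩ := h1
    rcases h2 with h2 | h2
    · exact h.ne_of_rel h2.1 rfl
    · exact h.C_ne h2.1 rfl

end Data

end Cfsg.Lib.PermAut.MclRecog
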