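import Cfsg.Agent.Lib.PermAut.MclRecog.Model
import Cfsg.Agent.Lib.PermAut.MclRecog.ClassChecks

/-!
# Hemisystems among the neighbours and automorphisms fixing a point
-/

set_option autoImplicit false
set_option maxRecDepth 100000

namespace Cfsg.Lib.PermAut.MclRecog

open Cfsg Equiv MulAction

/-- A mask represents a set of neighbours. -/
def Is (f : Pt → Prop) (m : ℕ) : Prop := ∀ v : Pt, InB v → (m.testBit (v : ℕ) = true ↔ f v)

theorem is_unique {f : Pt → Prop} {m m' : ℕ} (hm : Is f m) (hm' : Is f m')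
    (h1 : Nat.land m bMask = m) (h2 : Nat.land m' bMask = m') : m = m' := by
  refine Nat.eq_of_testBit_eq fun i => ?_
  rw [← h1, ← h2]
  show (m &&& bMask).testBit i = (m' &&& bMask).testBit i
  rw [Nat.testBit_land, Nat.testBit_land]
  by_cases hb : bMask.testBit i = true
  · have hi : i < 275 := by
      by_contra hi
      have : bMask < 2 ^ i := lt_of_lt_of_le (show bMask < 2 ^ 275 by decide +kernel)
        (Nat.pow_le_pow_right two_pos (not_lt.1 hi))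
      rw [Nat.testBit_lt_two_pow this] at hb
      exact Bool.false_ne_true hb
    rw [hb, Bool.and_true, Bool.and_true, Bool.eq_iff_iff]
    exact (hm ⟨i, hi⟩ hb).trans (hm' ⟨i, hi⟩ hb).symm
  · rw [Bool.not_eq_true] at hb
    rw [hb, Bool.and_false, Bool.and_false]

/-- The state of the search is consistent with a set. -/
def Cons (f : Pt → Prop) (s : ℕ × ℕ) : Prop :=
  ∀ v : Pt, (s.1.testBit (v : ℕ) = true → f v) ∧ (s.2.testBit (v : ℕ) = true → ¬ f v)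

/-- The condition of one clique. -/
def Two (f : Pt → Prop) (q : ℕ × ℕ × ℕ × ℕ) : Prop :=
  ∀ a b c d : Pt, (a : ℕ) = q.1 → (b : ℕ) = q.2.1 → (c : ℕ) = q.2.2.1 → (d : ℕ) = q.2.2.2 →
    f a ∧ f b ∧ ¬ f c ∧ ¬ f d ∨ f a ∧ ¬ f b ∧ f c ∧ ¬ f d ∨ f a ∧ ¬ f b ∧ ¬ f c ∧ f d ∨
    ¬ f a ∧ f b ∧ f c ∧ ¬ f d ∨ ¬ f a ∧ f b ∧ ¬ f c ∧ f d ∨ ¬ f a ∧ ¬ f b ∧ f c ∧ f d

theorem bit_lor_pair {a b x : ℕ} :
    (Nat.lor (Nat.shiftLeft 1 a) (Nat.shiftLeft 1 b)).testBit x = true ↔ x = a ∨ x = b := by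
  show ((1 <<< a) ||| (1 <<< b)).testBit x = true ↔ _
  rw [Nat.testBit_lor, Bool.or_eq_true, Nat.one_shiftLeft, Nat.one_shiftLeft, Nat.testBit_two_pow,
    Nat.testBit_two_pow, decide_eq_true_eq, decide_eq_true_eq]
  exact or_congr eq_comm eq_comm

theorem cons_step {f : Pt → Prop} {q : ℕ × ℕ × ℕ × ℕ} {s : ℕ × ℕ} (hs : Cons f s)
    (hq : q.1 < 275 ∧ q.2.1 < 275 ∧ q.2.2.1 < 275 ∧ q.2.2.2 < 275) (h : Two f q) :
    ∃ t ∈ stepS q s, Cons f t := by
  obtain ⟨a, b, c, d⟩ := q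
  obtain ⟨ha, hb, hc, hd⟩ := hq
  have key : ∀ {i j k l : ℕ}, (∀ x : Pt, ((x : ℕ) = i ∨ (x : ℕ) = j → f x) ∧ ((x : ℕ) = k ∨ (x : ℕ) = l → ¬ f x)) →
      Nat.beq (Nat.land s.1 (Nat.lor (Nat.shiftLeft 1 k) (Nat.shiftLeft 1 l))) 0 = true →
      Nat.beq (Nat.land s.2 (Nat.lor (Nat.shiftLeft 1 i) (Nat.shiftLeft 1 j))) 0 = true →
      Cons f (Nat.lor s.1 (Nat.lor (Nat.shiftLeft 1 i) (Nat.shiftLeft 1 j)),
        Nat.lor s.2 (Nat.lor (Nat.shiftLeft 1 k) (Nat.shiftLeft 1 l))) := by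
    intro i j k l hf _ _ x
    constructor <;> intro hx
    · change (s.1 ||| _).testBit (x : ℕ) = true at hx
      rw [Nat.testBit_lor, Bool.or_eq_true, bit_lor_pair] at hx
      exact hx.elim (hs x).1 (hf x).1
    · change (s.2 ||| _).testBit (x : ℕ) = true at hx
      rw [Nat.testBit_lor, Bool.or_eq_true, bit_lor_pair] at hx
      exact hx.elim (hs x).2 (hf x).2
  have good : ∀ {i j k l : ℕ}, i < 275 → j < 275 → k < 275 → l < 275 →
      (∀ x : Pt, ((x : ℕ) = i ∨ (x : ℕ) = j → f x) ∧ ((x : ℕ) = k ∨ (x : ℕ) = l → ¬ f x)) →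
      Nat.beq (Nat.land s.1 (Nat.lor (Nat.shiftLeft 1 k) (Nat.shiftLeft 1 l))) 0 = true ∧
      Nat.beq (Nat.land s.2 (Nat.lor (Nat.shiftLeft 1 i) (Nat.shiftLeft 1 j))) 0 = true := by
    intro i j k l hi hj hk hl hf
    have aux : ∀ {m p q : ℕ}, p < 275 → q < 275 →
        (∀ x : Pt, (x : ℕ) = p ∨ (x : ℕ) = q → m.testBit (x : ℕ) = true → False) →
        Nat.beq (Nat.land m (Nat.lor (Nat.shiftLeft 1 p) (Nat.shiftLeft 1 q))) 0 = true := by
      intro m p q hp hq hh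
      rw [Nat.beq_eq]
      refine Nat.eq_of_testBit_eq fun x => ?_
      show (m &&& _).testBit x = _
      rw [Nat.zero_testBit, Nat.testBit_land, Bool.and_eq_false_iff]
      by_contra hne
      simp only [not_or, Bool.not_eq_false, bit_lor_pair] at hne
      exact hh ⟨x, by rcases hne.2 with rfl | rfl <;> assumption⟩ hne.2 hne.1
    exact ⟨aux hk hl fun x hx hm => (hf x).2 hx ((hs x).1 hm),
      aux hi hj fun x hx hm => (hs x).2 hm ((hf x).1 hx)⟩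
  have pick : ∀ {i j k l : Pt}, f i → f j → ¬ f k → ¬ f l → ∀ x : Pt,
      ((x : ℕ) = i ∨ (x : ℕ) = j → f x) ∧ ((x : ℕ) = k ∨ (x : ℕ) = l → ¬ f x) := by
    intro i j k l h1 h2 h3 h4 x
    refine ⟨?_, ?_⟩ <;> rintro (e | e) <;> obtain rfl := Fin.ext e <;> assumption
  simp only [stepS, List.mem_filterMap, List.mem_cons, List.not_mem_nil, or_false]
  rcases h ⟨a, ha⟩ ⟨b, hb⟩ ⟨c, hc⟩ ⟨d, hd⟩ rfl rfl rfl rfl with
    ⟨h1, h2, h3, h4⟩ | ⟨h1, h2, h3, h4⟩ | ⟨h1, h2, h3, h4⟩ | ⟨h1, h2, h3, h4⟩ | ⟨h1, h2, h3, h4⟩ | ⟨h1, h2, h3, h4⟩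
  · obtain ⟨g1, g2⟩ := good ha hb hc hd (pick h1 h2 h3 h4)
    exact ⟨_, ⟨_, Or.inl rfl, if_pos (by rw [g1, g2]; rfl)⟩, key (pick h1 h2 h3 h4) g1 g2⟩
  · obtain ⟨g1, g2⟩ := good ha hc hb hd (pick h1 h3 h2 h4)
    exact ⟨_, ⟨_, Or.inr (Or.inl rfl), if_pos (by rw [g1, g2]; rfl)⟩, key (pick h1 h3 h2 h4) g1 g2⟩
  · obtain ⟨g1, g2⟩ := good ha hd hb hc (pick h1 h4 h2 h3)
    exact ⟨_, ⟨_, Or.inr (Or.inr (Or.inl rfl)), if_pos (by rw [g1, g2]; rfl)⟩, key (pick h1 h4 h2 h3) g1 g2⟩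
  · obtain ⟨g1, g2⟩ := good hb hc ha hd (pick h2 h3 h1 h4)
    exact ⟨_, ⟨_, Or.inr (Or.inr (Or.inr (Or.inl rfl))), if_pos (by rw [g1, g2]; rfl)⟩, key (pick h2 h3 h1 h4) g1 g2⟩
  · obtain ⟨g1, g2⟩ := good hb hd ha hc (pick h2 h4 h1 h3)
    exact ⟨_, ⟨_, Or.inr (Or.inr (Or.inr (Or.inr (Or.inl rfl)))), if_pos (by rw [g1, g2]; rfl)⟩,
      key (pick h2 h4 h1 h3) g1 g2⟩
  · obtain ⟨g1, g2⟩ := good hc hd ha hb (pick h3 h4 h1 h2)
    exact ⟨_, ⟨_, Or.inr (Or.inr (Or.inr (Or.inr (Or.inr rfl)))), if_pos (by rw [g1, g2]; rfl)⟩,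
      key (pick h3 h4 h1 h2) g1 g2⟩

theorem solve_sound {f : Pt → Prop} {ok : ℕ → ℕ → Bool} : ∀ (qs : List (ℕ × ℕ × ℕ × ℕ)) (s : ℕ × ℕ),
    solveB ok qs s = true → Cons f s →
    (∀ q ∈ qs, (q.1 < 275 ∧ q.2.1 < 275 ∧ q.2.2.1 < 275 ∧ q.2.2.2 < 275) ∧ Two f q) →
    ∃ t, Cons f t ∧ ok t.1 t.2 = true
  | [], s, h, hs, _ => ⟨s, hs, h⟩
  | q :: qs, s, h, hs, hq => by
    obtain ⟨hl, ht⟩ := hq q (List.mem_cons_self ..)
    obtain ⟨t, htm, htc⟩ := cons_step hs hl ht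
    simp only [solveB, List.all_eq_true, force_eq] at h
    exact solve_sound qs t (h t htm) htc fun q' h' => hq q' (List.mem_cons_of_mem _ h')

theorem expand_sound {f : Pt → Prop} : ∀ (qs : List (ℕ × ℕ × ℕ × ℕ)) (l : List (ℕ × ℕ)),
    (∃ s ∈ l, Cons f s) →
    (∀ q ∈ qs, (q.1 < 275 ∧ q.2.1 < 275 ∧ q.2.2.1 < 275 ∧ q.2.2.2 < 275) ∧ Two f q) →
    ∃ t ∈ expandS qs l, Cons f t
  | [], _, h, _ => h
  | q :: qs, l, ⟨s, hs, hc⟩, hq => by
    obtain ⟨hl, ht⟩ := hq q (List.mem_cons_self ..)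
    obtain ⟨t, htm, htc⟩ := cons_step hc hl ht
    exact expand_sound qs _ ⟨t, List.mem_flatMap.2 ⟨s, hs, htm⟩, htc⟩ fun q' h' => hq q' (List.mem_cons_of_mem _ h')

/-- What the checked cliques are. -/
theorem clique_facts {q : ℕ × ℕ × ℕ × ℕ} (hq : q ∈ clq) :
    ∃ a b c d : Pt, (a : ℕ) = q.1 ∧ (b : ℕ) = q.2.1 ∧ (c : ℕ) = q.2.2.1 ∧ (d : ℕ) = q.2.2.2 ∧
      InB a ∧ InB b ∧ InB c ∧ InB d ∧ [a, b, c, d].Nodup ∧
      A a b ∧ A a c ∧ A a d ∧ A b c ∧ A b d ∧ A c d := by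
  have h := clique_ok
  simp only [cliqueB, List.all_eq_true, Bool.and_eq_true, List.mem_cons, List.not_mem_nil, or_false,
    forall_eq_or_imp, forall_eq, Nat.blt, Nat.ble_eq] at h
  obtain ⟨⟨⟨⟨a1, a2⟩, ⟨b1, b2⟩, ⟨c1, c2⟩, d1, d2⟩, hnd⟩, ⟨hab, -⟩, ⟨hac, -⟩, ⟨had, -⟩, ⟨hbc, -⟩, ⟨hbd, -⟩, hcd, -⟩ := h q hq
  refine ⟨⟨q.1, a2⟩, ⟨q.2.1, b2⟩, ⟨q.2.2.1, c2⟩, ⟨q.2.2.2, d2⟩, rfl, rfl, rfl, rfl, a1, b1, c1, d1, ?_,
    hab, hac, had, hbc, hbd, hcd⟩
  exact List.Nodup.of_map (fun v : Pt => (v : ℕ)) (nodup_of_nodupB hnd)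

/-- A hemisystem lies in one of the four orbits. -/
theorem hemi {f : Pt → Prop}
    (h : ∀ a b c d : Pt, InB a → InB b → InB c → InB d → [a, b, c, d].Nodup →
      A a b → A a c → A a d → A b c → A b d → A c d →
      f a ∧ f b ∧ ¬ f c ∧ ¬ f d ∨ f a ∧ ¬ f b ∧ f c ∧ ¬ f d ∨ f a ∧ ¬ f b ∧ ¬ f c ∧ f d ∨
      ¬ f a ∧ f b ∧ f c ∧ ¬ f d ∨ ¬ f a ∧ f b ∧ ¬ f c ∧ f d ∨ ¬ f a ∧ ¬ f b ∧ f c ∧ f d) :
    ∃ l ∈ clsL, ∃ e ∈ l, Is f e.1 := by
  have hq : ∀ q ∈ clq, (q.1 < 275 ∧ q.2.1 < 275 ∧ q.2.2.1 < 275 ∧ q.2.2.2 < 275) ∧ Two f q := fun q hq => by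
    obtain ⟨a, b, c, d, ea, eb, ec, ed, ha, hb, hc, hd, hnd, h1, h2, h3, h4, h5, h6⟩ := clique_facts hq
    refine ⟨⟨ea ▸ a.isLt, eb ▸ b.isLt, ec ▸ c.isLt, ed ▸ d.isLt⟩, fun a' b' c' d' e1 e2 e3 e4 => ?_⟩
    obtain rfl : a' = a := Fin.ext (e1.trans ea.symm)
    obtain rfl : b' = b := Fin.ext (e2.trans eb.symm)
    obtain rfl : c' = c := Fin.ext (e3.trans ec.symm)
    obtain rfl : d' = d := Fin.ext (e4.trans ed.symm)
    exact h _ _ _ _ ha hb hc hd hnd h1 h2 h3 h4 h5 h6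
  obtain ⟨t, ht, htc⟩ := expand_sound (clq.take 8) [(0, 0)]
    ⟨(0, 0), List.mem_singleton_self _, fun v => by simp⟩ fun q h' => hq q (List.mem_of_mem_take h')
  change t ∈ front at ht
  obtain ⟨i, hi, rfl⟩ := List.getElem_of_mem ht
  have hlen := front_len
  have hc := chunks (i / 30) (by omega)
  simp only [chunkB, List.all_eq_true] at hc
  have hmem : front[i] ∈ (front.drop (30 * (i / 30))).take 30 := by
    refine List.mem_iff_getElem.2 ⟨i % 30, ?_, ?_⟩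
    · rw [List.length_take, List.length_drop]; omega
    · rw [List.getElem_take, List.getElem_drop]
      exact getElem_congr_idx (Nat.div_add_mod i 30)
  obtain ⟨s, hs, hok⟩ := solve_sound (clq.drop 8) _ (hc _ hmem) htc fun q h' => hq q (List.mem_of_mem_drop h')
  simp only [leafB, Bool.and_eq_true, List.any_eq_true, Nat.beq_eq] at hok
  obtain ⟨hall, l, hl, e, he, hes⟩ := hok
  refine ⟨l, hl, e, he, fun v hv => ?_⟩
  rw [hes]
  refine ⟨(hs v).1, fun hf => ?_⟩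
  have hb : (s.1 ||| s.2).testBit (v : ℕ) = true := (show (s.1 ||| s.2) = bMask from hall) ▸ hv
  rw [Nat.testBit_lor, Bool.or_eq_true] at hb
  exact hb.resolve_right fun h2 => (hs v).2 h2 hf

theorem clsSet {l : List (ℕ × ℕ × ℕ)} (hl : l ∈ clsL) :
    (l.map fun e => e.1).Nodup ∧ (∀ e ∈ l, Nat.land e.1 bMask = e.1) ∧ l.length = 162 := by
  have h := clsSet_ok
  simp only [List.all_eq_true, clsSetB, Bool.and_eq_true, Nat.beq_eq] at h
  obtain ⟨⟨h1, h2⟩, h3⟩ := h l hl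
  exact ⟨nodup_of_nodupB h1, h2, h3⟩

theorem imgM_bit (T m w : ℕ) :
    (imgM T m).testBit w = true ↔ ∃ v ∈ bl, m.testBit v = true ∧ ent 9 T v = w := by
  have key : ∀ (l : List ℕ) (acc : ℕ),
      (l.foldl (fun acc v => if m.testBit v then Nat.lor acc (Nat.shiftLeft 1 (ent 9 T v)) else acc) acc).testBit w = true ↔
        acc.testBit w = true ∨ ∃ v ∈ l, m.testBit v = true ∧ ent 9 T v = w := by
    intro l
    induction l with
    | nil => simp
    | cons v l ih =>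
      intro acc
      rw [List.foldl_cons, ih]
      by_cases hv : m.testBit v = true
      · rw [if_pos hv]
        change ((acc ||| 1 <<< ent 9 T v).testBit w = true ∨ _) ↔ _
        rw [Nat.testBit_lor, Bool.or_eq_true, Nat.one_shiftLeft, Nat.testBit_two_pow, decide_eq_true_eq]
        simp [hv, or_assoc]
      · rw [if_neg hv]
        simp [hv]
  rw [imgM, key]
  simp

theorem imgM_apply {T : ℕ} (hT : Rep 9 (toP 9 275 T) T) (m : ℕ) {v : Pt} (hv : InB v) :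
    (imgM T m).testBit ((toP 9 275 T v : Pt) : ℕ) = true ↔ m.testBit (v : ℕ) = true := by
  rw [imgM_bit]
  constructor
  · rintro ⟨u, hu, hm, e⟩
    have hu' := (nbr.2.2.1 u hu).1
    have e' : toP 9 275 T ⟨u, hu'⟩ = toP 9 275 T v := Fin.ext ((hT ⟨u, hu'⟩).trans e)
    rw [← (toP 9 275 T).injective e']
    exact hm
  · exact fun hm => ⟨v, nbr.2.1 v hv, hm, (hT v).symm⟩

/-- Translation of sets of neighbours. -/
def Moves (k : Perm Pt) (m m' : ℕ) : Prop := ∀ v : Pt, InB v → (m'.testBit ((k v : Pt) : ℕ) = true ↔ m.testBit (v : ℕ) = true)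

theorem Moves.comp {k k' : Perm Pt} (hk : k ∈ MclPsu.KS) {m m' m'' : ℕ} (h : Moves k m m') (h' : Moves k' m' m'') :
    Moves (k' * k) m m'' := fun v hv =>
  (h' (k v) ((stab_B (KS_le_aut hk) (KS_fix hk) v).2 hv)).trans (h v hv)

theorem Moves.symm {k : Perm Pt} (hk : k ∈ MclPsu.KS) {m m' : ℕ} (h : Moves k m m') : Moves k⁻¹ m' m := fun v hv => by
  have hv' : InB (k⁻¹ v) := (stab_B (inv_mem (KS_le_aut hk)) (KS_fix (inv_mem hk)) v).2 hv
  have := h _ hv'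
  rw [show k (k⁻¹ v) = v by simp] at this
  exact this.symm

/-- The orbits are closed and transitive. -/
theorem cls_orbit {l : List (ℕ × ℕ × ℕ)} (hl : l ∈ clsL) :
    (∀ e ∈ l, ∀ k ∈ MclPsu.KS, ∃ e' ∈ l, Moves k e.1 e'.1) ∧
    ∀ e ∈ l, ∀ e' ∈ l, ∃ k ∈ MclPsu.KS, Moves k e.1 e'.1 := by
  have h := tree_ok
  simp only [List.all_eq_true, treeB, Bool.and_eq_true, Bool.or_eq_true, List.mem_range, Nat.beq_eq, Nat.blt,
    Nat.ble_eq, List.any_eq_true, force_eq] at h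
  obtain ⟨htree, hclo⟩ := h l hl
  have hone : ∀ (i m : ℕ), Moves (toP 9 275 (gTab i)) m (imgM (gTab i) m) := fun i m v hv =>
    imgM_apply (gTab_spec i).1 m hv
  have closed : ∀ e ∈ l, ∀ k ∈ MclPsu.KS, ∃ e' ∈ l, Moves k e.1 e'.1 := by
    intro e he k hk
    have hk' : k ∈ Submonoid.closure ({toP 9 275 MclPsu.stabSub.g0, toP 9 275 MclPsu.stabSub.g1} : Set (Perm Pt)) := by
      rw [← Subgroup.closure_toSubmonoid_of_finite, Subgroup.mem_toSubmonoid]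
      have := hk
      rwa [MclPsu.ks_eq, Sub.grp] at this
    clear hk
    induction hk' using Submonoid.closure_induction_left with
    | one => exact ⟨e, he, fun v _ => Iff.rfl⟩
    | mul_left x hx y hy ih =>
      obtain ⟨e1, he1, hm1⟩ := ih
      have hy' : y ∈ MclPsu.KS := by
        rw [← Subgroup.closure_toSubmonoid_of_finite, Subgroup.mem_toSubmonoid] at hy
        rwa [MclPsu.ks_eq, Sub.grp]
      obtain ⟨⟨f0, hf0, ef0⟩, f1, hf1, ef1⟩ := hclo e1 he1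
      rcases hx with rfl | rfl
      · exact ⟨f0, hf0, hm1.comp hy' (ef0.symm ▸ hone 0 e1.1)⟩
      · exact ⟨f1, hf1, hm1.comp hy' (ef1.symm ▸ hone 1 e1.1)⟩
  refine ⟨closed, fun e he e' he' => ?_⟩
  have reach : ∀ j < l.length, ∃ k ∈ MclPsu.KS, Moves k (l.getD 0 (0, 0, 0)).1 (l.getD j (0, 0, 0)).1 := by
    intro j
    induction j using Nat.strong_induction_on with
    | _ j ih =>
      intro hj
      rcases htree j hj with rfl | ⟨hlt, heq⟩
      · exact ⟨1, one_mem _, fun v _ => Iff.rfl⟩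
      · obtain ⟨k, hk, hm⟩ := ih _ hlt (Nat.lt_trans hlt hj)
        refine ⟨_, mul_mem (gTab_spec (l.getD j (0, 0, 0)).2.1).2 hk, hm.comp hk ?_⟩
        have := hone (l.getD j (0, 0, 0)).2.1 (l.getD (l.getD j (0, 0, 0)).2.2 (0, 0, 0)).1
        rwa [show imgM (gTab (l.getD j (0, 0, 0)).2.1) (l.getD (l.getD j (0, 0, 0)).2.2 (0, 0, 0)).1 =
          (l.getD j (0, 0, 0)).1 from heq.symm] at this
  have getD_mem : ∀ {x}, x ∈ l → ∃ j < l.length, l.getD j (0, 0, 0) = x := fun {x} hx => by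
    obtain ⟨j, hj, rfl⟩ := List.getElem_of_mem hx
    exact ⟨j, hj, List.getD_eq_getElem _ _ hj⟩
  obtain ⟨i, hi, rfl⟩ := getD_mem he
  obtain ⟨j, hj, rfl⟩ := getD_mem he'
  obtain ⟨k, hk, hm⟩ := reach i hi
  obtain ⟨k', hk', hm'⟩ := reach j hj
  exact ⟨k' * k⁻¹, mul_mem hk' (inv_mem hk), (hm.symm hk).comp (inv_mem hk) hm'⟩

/-- Each orbit is carried onto the rows of the 162 by an automorphism of the graph on the 112. -/
theorem cls_twist {l : List (ℕ × ℕ × ℕ)} (hl : l ∈ clsL) : ∃ τ : Perm Pt,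
    (∀ v, InB v → InB (τ v)) ∧ (∀ u v, InB u → InB v → (A (τ u) (τ v) ↔ A u v)) ∧
    ∀ e ∈ l, ∃ y, InC y ∧ ∀ v, InB v → (A y (τ v) ↔ e.1.testBit (v : ℕ) = true) := by
  obtain ⟨s, hs⟩ : ∃ s, sigB s l = true := by
    have h := sig_ok
    simp only [sigL, clsL, all2, Bool.and_eq_true] at h
    simp only [clsL, List.mem_cons, List.not_mem_nil, or_false] at hl
    rcases hl with rfl | rfl | rfl | rfl
    exacts [⟨_, h.1⟩, ⟨_, h.2.1⟩, ⟨_, h.2.2.1⟩, ⟨_, h.2.2.2.1⟩]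
  simp only [sigB, Bool.and_eq_true, List.all_eq_true, force_eq, beq_iff_eq, List.any_eq_true, Nat.beq_eq] at hs
  obtain ⟨⟨hinv, hB⟩, hmap⟩ := hs
  have hT := (rep_of_invPairOk (N := 275) hinv).1
  have hBt : ∀ v, InB v → InB (toP 9 275 s.1 v) := fun v hv => by
    show bMask.testBit _ = true
    rw [hT v]; exact (hB v (nbr.2.1 v hv)).1
  refine ⟨toP 9 275 s.1, hBt, fun u v hu hv => ?_, fun e he => ?_⟩
  · show adj _ _ = true ↔ adj _ _ = true
    simp only [adj, hT u, hT v, (hB u (nbr.2.1 u hu)).2 v (nbr.2.1 v hv)]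
  · obtain ⟨f, hf, ef⟩ := hmap e he
    obtain ⟨y, hy, ey⟩ := rows.2.1 f hf
    refine ⟨y, hy, fun v hv => ?_⟩
    rw [← hmask_bit y _ (hBt v hv), ← ey, ef]
    exact imgM_apply hT e.1 hv

theorem prof_map {g : Perm Pt} (hg : g ∈ AutA) : ∀ (P : List (ℕ × ℕ)),
    (∀ e ∈ P, ∃ p : Pt, (p : ℕ) = e.1 ∧ e.2 = row p ∧ g p = p) → ∀ z : Pt, prof P (g z : Pt) = prof P z
  | [], _, _ => rfl
  | e :: P, h, z => by
    obtain ⟨p, hp, hr, hgp⟩ := h e (List.mem_cons_self ..)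
    have h1 : ((g z : Pt) : ℕ) = e.1 ↔ (z : ℕ) = e.1 := by
      rw [← hp]
      exact ⟨fun h => congrArg Fin.val (g.injective ((Fin.ext h).trans hgp.symm)),
        fun h => by rw [Fin.ext h]; exact congrArg Fin.val hgp⟩
    have h2 : e.2.testBit (g z : Pt) = true ↔ e.2.testBit z = true := by
      rw [hr]
      have := hg p z
      rwa [hgp] at this
    simp only [prof, Nat.beq_eq, prof_map hg P (fun e' h' => h e' (List.mem_cons_of_mem _ h')) z, h1, h2]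

theorem sig_map {g : Perm Pt} (hg : g ∈ AutA) (h38 : g 38 = 38) {P : List (ℕ × ℕ)}
    (hP : ∀ e ∈ P, ∃ p : Pt, (p : ℕ) = e.1 ∧ e.2 = row p ∧ g p = p) (W : List ℕ) (z : Pt) :
    sigP P W (g z : Pt) = sigP P W z := by
  simp only [sigP, prof_map hg P hP z, List.cons.injEq, true_and]
  refine List.map_congr_left fun k _ => ?_
  simp only [cntP, length_filter]
  refine (Finset.card_equiv g fun w => ?_).symm
  simp only [Finset.mem_filter, Finset.mem_univ, true_and, Bool.and_eq_true, Nat.beq_eq, stab_B hg h38,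
    prof_map hg P hP]
  exact and_congr_right fun _ => and_congr_left fun _ => (hg z w).symm

/-- The automorphisms fixing the base point. -/
def X38 : Subgroup (Perm Pt) := AutA ⊓ stabilizer (Perm Pt) (38 : Pt)

/-- The automorphisms fixing the first points of the base. -/
def fixed (i : ℕ) : Subgroup (Perm Pt) where
  carrier := {g | g ∈ X38 ∧ ∀ p : Pt, (∃ e ∈ gBR.take i, (p : ℕ) = e.1) → g p = p}
  mul_mem' := fun {g h} hg hh => ⟨mul_mem hg.1 hh.1, fun p hp => by rw [Perm.mul_apply, hh.2 p hp, hg.2 p hp]⟩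
  one_mem' := ⟨one_mem _, fun _ _ => rfl⟩
  inv_mem' := fun {g} hg => ⟨inv_mem hg.1, fun p hp => by
    conv_lhs => rw [← hg.2 p hp]
    simp⟩

theorem X38_le {g : Perm Pt} (hg : g ∈ X38) : g ∈ AutA ∧ g 38 = 38 := ⟨hg.1, hg.2⟩

/-- The bound. -/
theorem card_X38 : Nat.card X38 ≤ 26127360 := by
  classical
  have h := base_ok
  simp only [baseB, Bool.and_eq_true, Nat.beq_eq, List.all_eq_true, List.mem_range, Nat.blt, Nat.ble_eq,
    beq_iff_eq] at h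
  obtain ⟨⟨⟨⟨hlen, hrows⟩, hstep⟩, hlast⟩, hprod⟩ := h
  have hpts : ∀ {g : Perm Pt} {i : ℕ}, g ∈ fixed i →
      ∀ e ∈ gBR.take i, ∃ p : Pt, (p : ℕ) = e.1 ∧ e.2 = row p ∧ g p = p := fun {g i} hg e he =>
    ⟨⟨e.1, (hrows e (List.mem_of_mem_take he)).2⟩, rfl, (hrows e (List.mem_of_mem_take he)).1.1, hg.2 _ ⟨e, he, rfl⟩⟩
  have h7 : fixed 7 = ⊥ := by
    refine (Subgroup.eq_bot_iff_forall _).2 fun g hg => ?_
    obtain ⟨hA, h38⟩ := X38_le hg.1
    have hfixB : ∀ v, InB v → g v = v := fun v hv => by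
      have hl := hlast v (nbr.2.1 v hv)
      rw [length_filter] at hl
      have e7 : gBR.take 7 = gBR := List.take_of_length_le hlen.le
      have hsig : sigP gBR (gWit.getD 7 []) (g v : Pt) = sigP gBR (gWit.getD 7 []) v :=
        sig_map hA h38 (fun e he => hpts hg e (e7.symm ▸ he)) _ v
      exact Finset.card_le_one.1 hl.le _
        (Finset.mem_filter.2 ⟨Finset.mem_univ _, (stab_B hA h38 v).2 hv, beq_iff_eq.2 hsig⟩) _
        (Finset.mem_filter.2 ⟨Finset.mem_univ _, hv, beq_iff_eq.2 rfl⟩)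
    refine Equiv.ext fun x => ?_
    rcases cases x with rfl | hx | hx
    · exact h38
    · exact hfixB x hx
    · obtain ⟨e, he, hex⟩ := rows.1 x hx
      have hgx : InC (g x) := (stab_C hA h38 x).2 hx
      obtain ⟨f, hf, hfx⟩ := rows.1 _ hgx
      show g x = x
      refine rows.2.2.1 _ _ hgx hx ?_
      have hcls : cls0 ∈ clsL := List.mem_cons_self ..
      rw [← hfx, ← hex]
      refine is_unique (f := fun v => A x v) (fun v hv => ?_) (fun v hv => ?_)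
        ((clsSet hcls).2.1 f hf) ((clsSet hcls).2.1 e he)
      · rw [hfx]
        refine (hmask_bit _ _ hv).trans ?_
        have := hA x v
        rwa [hfixB v hv] at this
      · rw [hex]
        exact hmask_bit _ _ hv
  have hstep' : ∀ i, i < 7 → Nat.card (fixed i) ≤ gSize.getD i 0 * Nat.card (fixed (i + 1)) := by
    intro i hi
    have hd : gBR.getD i (0, 0) ∈ gBR := by
      rw [List.getD_eq_getElem _ _ (by omega : i < gBR.length)]; exact List.getElem_mem _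
    obtain ⟨⟨-, hpB⟩, hp275⟩ := hrows _ hd
    set p : Pt := ⟨(gBR.getD i (0, 0)).1, hp275⟩ with hp
    have hm := card_mul_stab (fixed i) p (S := {y | ∃ g ∈ fixed i, g p = y}) fun y => Iff.rfl
    rw [← hm]
    have hle : fixed i ⊓ stabilizer (Perm Pt) p ≤ fixed (i + 1) := by
      rintro g ⟨hg, hgp⟩
      refine ⟨hg.1, fun q hq => ?_⟩
      obtain ⟨e, he, hqe⟩ := hq
      rw [List.take_add_one, List.mem_append] at he
      rcases he with he | he
      · exact hg.2 q ⟨e, he, hqe⟩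
      · rw [Option.mem_toList, List.getElem?_eq_getElem (by omega : i < gBR.length), Option.some_inj] at he
        have : q = p := Fin.ext (by
          rw [hqe, ← he]
          show (gBR[i]).1 = (gBR.getD i (0, 0)).1
          rw [List.getD_eq_getElem _ _ (by omega : i < gBR.length)]; rfl)
        rw [this]; exact hgp
    refine Nat.mul_le_mul ?_ (Subgroup.card_le_of_le hle)
    refine le_trans ?_ (hstep i hi)
    rw [length_filter, ← Set.ncard_coe_finset]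
    refine Set.ncard_le_ncard ?_
    rintro _ ⟨g, hg, rfl⟩
    obtain ⟨hA, h38⟩ := X38_le hg.1
    simp only [Finset.coe_filter, Finset.mem_univ, true_and, Set.mem_setOf_eq, beq_iff_eq]
    exact ⟨(stab_B hA h38 p).2 hpB, sig_map hA h38 (hpts hg) _ p⟩
  have h0 : fixed 0 = X38 := le_antisymm (fun g hg => hg.1) fun g hg => ⟨hg, fun p ⟨e, he, _⟩ => by simp at he⟩
  have hs := fun i (hi : i < 7) => hstep' i hi
  rw [← h0]
  have e7 : Nat.card (fixed 7) = 1 := by rw [h7]; exact Subgroup.card_bot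
  calc Nat.card (fixed 0)
      ≤ gSize.getD 0 0 * (gSize.getD 1 0 * (gSize.getD 2 0 * (gSize.getD 3 0 *
          (gSize.getD 4 0 * (gSize.getD 5 0 * (gSize.getD 6 0 * Nat.card (fixed 7))))))) := by
        refine (hs 0 (by omega)).trans (Nat.mul_le_mul_left _ ?_)
        refine (hs 1 (by omega)).trans (Nat.mul_le_mul_left _ ?_)
        refine (hs 2 (by omega)).trans (Nat.mul_le_mul_left _ ?_)
        refine (hs 3 (by omega)).trans (Nat.mul_le_mul_left _ ?_)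
        refine (hs 4 (by omega)).trans (Nat.mul_le_mul_left _ ?_)
        refine (hs 5 (by omega)).trans (Nat.mul_le_mul_left _ ?_)
        exact hs 6 (by omega)
    _ ≤ 26127360 := by rw [e7]; decide +kernel

end Cfsg.Lib.PermAut.MclRecog
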