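import Cfsg.Agent.Lib.PermAut.MclRecog.Lift

/-!
# The graph of the rank three group is the graph on the 275 points
-/

set_option autoImplicit false
set_option linter.unusedSectionVars false
set_option maxRecDepth 100000

namespace Cfsg.Lib.PermAut.MclRecog

open Cfsg Equiv MulAction Finset

theorem two_of_four (p q r s : Prop) [Decidable p] [Decidable q] [Decidable r] [Decidable s]
    (h : (if p then (1 : ℤ) else 0) + (if q then 1 else 0) + (if r then 1 else 0) + (if s then 1 else 0) = 2) :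
    p ∧ q ∧ ¬ r ∧ ¬ s ∨ p ∧ ¬ q ∧ r ∧ ¬ s ∨ p ∧ ¬ q ∧ ¬ r ∧ s ∨
    ¬ p ∧ q ∧ r ∧ ¬ s ∨ ¬ p ∧ q ∧ ¬ r ∧ s ∨ ¬ p ∧ ¬ q ∧ r ∧ s := by
  by_cases hp : p <;> by_cases hq : q <;> by_cases hr : r <;> by_cases hs : s <;> simp_all

namespace Setup

variable {Ω : Type*} [Fintype Ω] [DecidableEq Ω] {G : Subgroup (Perm Ω)} {a b c : Ω} (S : Setup G a b c)
include S

/-- The properties of the bijection of the neighbours. -/
structure IsBeta (β : Pt → Ω) : Prop where
  equiv : ∀ (k : ↥MclPsu.KS) (v : Pt), InB v → β ((k : Perm Pt) v) = S.ρ k (β v)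
  mem : ∀ v, InB v → Rel G a b a (β v)
  inj : ∀ u v, InB u → InB v → β u = β v → u = v
  surj : ∀ y, Rel G a b a y → ∃ v, InB v ∧ β v = y

variable {β : Pt → Ω} (hβ : S.IsBeta β)
include hβ

open Classical in
theorem card_beta (p : Ω → Prop) [DecidablePred p] :
    (univ.filter fun z => Rel G a b a z ∧ p z).card = (univ.filter fun v : Pt => InB v ∧ p (β v)).card := by
  refine (Finset.card_bij (fun v _ => β v) ?_ ?_ ?_).symm
  · intro v hv
    simp only [mem_filter, mem_univ, true_and] at hv ⊢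
    exact ⟨hβ.mem v hv.1, hv.2⟩
  · intro u hu v hv e
    simp only [mem_filter, mem_univ, true_and] at hu hv
    exact hβ.inj u v hu.1 hv.1 e
  · intro z hz
    simp only [mem_filter, mem_univ, true_and] at hz ⊢
    obtain ⟨v, hv, rfl⟩ := hβ.surj z hz.1
    exact ⟨v, ⟨hv, hz.2⟩, rfl⟩

/-- The neighbours carry the same graph. -/
theorem adjB {u v : Pt} (hu : InB u) (hv : InB v) : Rel G a b (β u) (β v) ↔ A u v := by
  classical
  have hmove : ∀ {k : ↥MclPsu.KS} {x y : Pt}, InB x → InB y →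
      (Rel G a b (β ((k : Perm Pt) x)) (β ((k : Perm Pt) y)) ↔ Rel G a b (β x) (β y)) := fun {k x y} hx hy => by
    rw [hβ.equiv k x hx, hβ.equiv k y hy]
    exact S.rel_rho b k _ _
  have h30 : (univ.filter fun w : Pt => InB w ∧ Rel G a b (β u) (β w)).card = 30 := by
    rw [← S.card_beta hβ fun z => Rel G a b (β u) z]
    exact (S.data.card_common (hβ.mem u hu)).trans S.data.lam_mu.1
  have hfar : ∀ w, InB w → Rel G a b (β u) (β w) → A u w := by
    intro w hw hr
    by_contra hA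
    have hne : w ≠ u := fun e => S.data.rel_self (β u) (e ▸ hr)
    have hall : ((univ.filter fun w : Pt => InB w) \ univ.filter fun w => InB w ∧ A u w).erase u ⊆
        univ.filter fun w : Pt => InB w ∧ Rel G a b (β u) (β w) := by
      intro y hy
      simp only [mem_erase, mem_sdiff, mem_filter, mem_univ, true_and, not_and] at hy ⊢
      obtain ⟨k, hk, k0, k1⟩ := trans_far hu hw hy.2.1 hne hy.1 hA (hy.2.2 hy.2.1)
      refine ⟨hy.2.1, ?_⟩
      have := (hmove (k := ⟨k, hk⟩) hu hw).2 hr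
      rwa [show ((⟨k, hk⟩ : ↥MclPsu.KS) : Perm Pt) = k from rfl, k0, k1] at this
    have hle := card_le_card hall
    rw [h30, card_erase_of_mem (mem_sdiff.2 ⟨mem_filter.2 ⟨mem_univ u, hu⟩,
      fun e => A_irrefl u (mem_filter.1 e).2.2⟩), card_sdiff_of_subset (fun z hz => by
        simp only [mem_filter, mem_univ, true_and] at hz ⊢
        exact hz.1), card_B, near_card hu] at hle
    omega
  have heq : (univ.filter fun w : Pt => InB w ∧ Rel G a b (β u) (β w)) = univ.filter fun w : Pt => InB w ∧ A u w :=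
    eq_of_subset_of_card_le (fun w hw => by
      simp only [mem_filter, mem_univ, true_and] at hw ⊢
      exact ⟨hw.1, hfar w hw.1 hw.2⟩) (by rw [near_card hu, h30])
  refine ⟨hfar v hv, fun hA => ?_⟩
  have hmem : v ∈ univ.filter fun w : Pt => InB w ∧ A u w := mem_filter.2 ⟨mem_univ v, hv, hA⟩
  rw [← heq] at hmem
  exact (mem_filter.1 hmem).2.2

open Classical in
theorem count_one {u : Pt} (hu : InB u) :
    (univ.filter fun z => Rel G a c a z ∧ Rel G a b z (β u)).card = 81 := by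
  have h := S.data.split fun z => Rel G a b (β u) z
  rw [S.data.card_out, if_pos (S.data.symm (hβ.mem u hu)),
    (S.data.card_common (hβ.mem u hu)).trans S.data.lam_mu.1] at h
  have e : (univ.filter fun z => Rel G a c a z ∧ Rel G a b (β u) z) =
      univ.filter fun z => Rel G a c a z ∧ Rel G a b z (β u) :=
    filter_congr fun z _ => and_congr_right fun _ => ⟨S.data.symm, S.data.symm⟩
  rw [← e]
  omega

open Classical in
theorem count_two {u v : Pt} (hu : InB u) (hv : InB v) (hA : A u v) :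
    (univ.filter fun z => Rel G a c a z ∧ Rel G a b z (β u) ∧ Rel G a b z (β v)).card = 27 := by
  have h := S.data.split fun z => Rel G a b (β u) z ∧ Rel G a b (β v) z
  have hc : (univ.filter fun z => Rel G a b (β u) z ∧ Rel G a b (β v) z).card = 30 := by
    convert (S.data.card_common ((S.adjB hβ hu hv).2 hA)).trans S.data.lam_mu.1
  rw [hc, if_pos ⟨S.data.symm (hβ.mem u hu), S.data.symm (hβ.mem v hv)⟩,
    S.card_beta hβ fun z => Rel G a b (β u) z ∧ Rel G a b (β v) z] at h
  have e2 : (univ.filter fun w : Pt => InB w ∧ Rel G a b (β u) (β w) ∧ Rel G a b (β v) (β w)) =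
      univ.filter fun w : Pt => InB w ∧ A u w ∧ A v w :=
    filter_congr fun w _ => and_congr_right fun hw => Iff.and (S.adjB hβ hu hw) (S.adjB hβ hv hw)
  rw [e2, two_common hu hv hA] at h
  have e : (univ.filter fun z => Rel G a c a z ∧ Rel G a b (β u) z ∧ Rel G a b (β v) z) =
      univ.filter fun z => Rel G a c a z ∧ Rel G a b z (β u) ∧ Rel G a b z (β v) :=
    filter_congr fun z _ => and_congr_right fun _ =>
      ⟨fun h => ⟨S.data.symm h.1, S.data.symm h.2⟩, fun h => ⟨S.data.symm h.1, S.data.symm h.2⟩⟩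
  rw [← e]
  omega

omit hβ in
open Classical in
theorem card_orbC : (univ.filter fun z => Rel G a c a z).card = 162 := by
  rw [← S.data.orbC, ← Set.ncard_coe_finset]
  congr 1
  ext z
  simp [S.data.orbit_iff]

/-- A point at distance two is adjacent to two points of every clique. -/
theorem hemisystem {w : Ω} (hw : Rel G a c a w) :
    ∃ l ∈ clsL, ∃ e ∈ l, Is (fun v => Rel G a b w (β v)) e.1 := by
  classical
  refine hemi fun p q r s hp hq hr hs _ h1 h2 h3 h4 h5 h6 => ?_
  refine two_of_four _ _ _ _ ?_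
  set C : Finset Ω := univ.filter fun z => Rel G a c a z with hC
  let f : Pt → Ω → ℤ := fun x z => if Rel G a b z (β x) then 1 else 0
  have one : ∀ {x}, InB x → ∑ z ∈ C, f x z = 81 := fun {x} hx => by
    simp only [f, sum_boole, hC, filter_filter]
    exact_mod_cast S.count_one hβ hx
  have two : ∀ {x y}, InB x → InB y → A x y → ∑ z ∈ C, f x z * f y z = 27 := fun {x y} hx hy hA => by
    simp only [f, ite_zero_mul_ite_zero, mul_one, sum_boole, hC, filter_filter]
    exact_mod_cast S.count_two hβ hx hy hA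
  have idem : ∀ x z, f x z * f x z = f x z := fun x z => by
    simp only [f]; split <;> simp
  have hsq : ∀ z, (f p z + f q z + f r z + f s z - 2) * (f p z + f q z + f r z + f s z - 2) =
      2 * (f p z * f q z + f p z * f r z + f p z * f s z + f q z * f r z + f q z * f s z + f r z * f s z)
        - 3 * (f p z + f q z + f r z + f s z) + 4 := fun z => by
    linear_combination idem p z + idem q z + idem r z + idem s z
  have hzero : ∑ z ∈ C, (f p z + f q z + f r z + f s z - 2) * (f p z + f q z + f r z + f s z - 2) = 0 := by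
    simp only [hsq, sum_add_distrib, sum_sub_distrib, ← mul_sum, sum_const, one hp, one hq, one hr, one hs,
      two hp hq h1, two hp hr h2, two hp hs h3, two hq hr h4, two hq hs h5, two hr hs h6]
    rw [hC, S.card_orbC]
    norm_num
  have hw' := (sum_eq_zero_iff_of_nonneg fun z _ => mul_self_nonneg _).1 hzero w (mem_filter.2 ⟨mem_univ w, hw⟩)
  have := mul_self_eq_zero.1 hw'
  simp only [f] at this
  linarith

/-- The graph is the graph on the 275 points. -/
theorem exists_model : ∃ Ψ : Ω ≃ Pt, Ψ a = 38 ∧ ∀ x y, A (Ψ x) (Ψ y) ↔ Rel G a b x y := by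
  classical
  have hcC : Rel G a c a c := ⟨1, one_mem _, rfl, rfl⟩
  obtain ⟨l, hl, e0, he0, hI0⟩ := S.hemisystem hβ hcC
  obtain ⟨hclo, htr⟩ := cls_orbit hl
  obtain ⟨hnd, hland, hlen⟩ := clsSet hl
  obtain ⟨τ, hτB, hτA, hτ⟩ := cls_twist hl
  have hmove : ∀ (k : ↥MclPsu.KS) {w : Ω} {m m' : ℕ}, Is (fun v => Rel G a b w (β v)) m →
      Moves (k : Perm Pt) m m' → Is (fun v => Rel G a b (S.ρ k w) (β v)) m' := by
    intro k w m m' hI hM v hv
    obtain ⟨u, rfl⟩ : ∃ u, (k : Perm Pt) u = v := ⟨(k : Perm Pt)⁻¹ v, by simp⟩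
    have hu : InB u := (stab_B (KS_le_aut k.2) (KS_fix k.2) u).1 hv
    rw [hM u hu, hI u hu]
    dsimp only
    rw [hβ.equiv k u hu]
    exact (S.rel_rho b k w (β u)).symm
  have hall : ∀ w, Rel G a c a w → ∃ e ∈ l, Is (fun v => Rel G a b w (β v)) e.1 := by
    intro w hw
    obtain ⟨k, rfl⟩ := (S.orbit_rho c w).1 hw
    obtain ⟨e, he, hm⟩ := hclo e0 he0 k k.2
    exact ⟨e, he, hmove k hI0 hm⟩
  have huniq : ∀ {f : Pt → Prop} {e e' : ℕ × ℕ × ℕ}, e ∈ l → e' ∈ l → Is f e.1 → Is f e'.1 → e = e' := by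
    intro f e e' he he' hI hI'
    exact List.inj_on_of_nodup_map hnd he he' (is_unique hI hI' (hland e he) (hland e' he'))
  choose! mk hmk hIs using hall
  set C : Finset Ω := univ.filter fun z => Rel G a c a z with hC
  have hsurj : C.image mk = l.toFinset := by
    ext e
    simp only [mem_image, List.mem_toFinset, hC, mem_filter, mem_univ, true_and]
    refine ⟨fun ⟨w, hw, e'⟩ => e' ▸ hmk w hw, fun he => ?_⟩
    obtain ⟨k, hk, hm⟩ := htr e0 he0 e he
    have hw : Rel G a c a (S.ρ ⟨k, hk⟩ c) := (S.orbit_rho c _).2 ⟨_, rfl⟩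
    exact ⟨_, hw, huniq (hmk _ hw) he (hIs _ hw) (hmove ⟨k, hk⟩ hI0 hm)⟩
  have hinj : Set.InjOn mk C := card_image_iff.1 (by
    rw [hsurj, List.toFinset_card_of_nodup (List.Nodup.of_map _ hnd), hlen, hC, S.card_orbC])
  have hy : ∀ w, Rel G a c a w → ∃ y, InC y ∧ ∀ v, InB v → (A y (τ v) ↔ Rel G a b w (β v)) := by
    intro w hw
    obtain ⟨y, hy, hyA⟩ := hτ _ (hmk w hw)
    exact ⟨y, hy, fun v hv => (hyA v hv).trans (hIs w hw v hv)⟩
  choose! γ hγC hγA using hy
  have hγinj : ∀ w w', Rel G a c a w → Rel G a c a w' → γ w = γ w' → w = w' := by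
    intro w w' hw hw' e
    refine hinj (mem_coe.2 (mem_filter.2 ⟨mem_univ w, hw⟩)) (mem_coe.2 (mem_filter.2 ⟨mem_univ w', hw'⟩)) ?_
    refine huniq (hmk w hw) (hmk w' hw') (hIs w hw) fun v hv => (hIs w' hw' v hv).trans ?_
    show Rel G a b w' (β v) ↔ Rel G a b w (β v)
    rw [← hγA w hw v hv, ← hγA w' hw' v hv, e]
  choose! ι hιB hι using hβ.surj
  let ψ : Ω → Pt := fun x => if x = a then 38 else if Rel G a b a x then τ (ι x) else γ x
  have ψa : ψ a = 38 := if_pos rfl
  have ψB : ∀ {x}, Rel G a b a x → ψ x = τ (ι x) := fun {x} hx => by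
    show ite _ _ _ = _
    rw [if_neg (S.data.ne_of_rel hx).symm, if_pos hx]
  have ψC : ∀ {x}, Rel G a c a x → ψ x = γ x := fun {x} hx => by
    show ite _ _ _ = _
    rw [if_neg (S.data.C_ne hx), if_neg fun hb => S.data.disjoint_BC hb hx]
  have ψβ : ∀ {v}, InB v → ψ (β v) = τ v := fun {v} hv => by
    rw [ψB (hβ.mem v hv), hβ.inj _ _ (hιB _ (hβ.mem v hv)) hv (hι _ (hβ.mem v hv))]
  have hinjψ : Function.Injective ψ := by
    intro x y e
    have hkey : ∀ x, (x = a → ψ x = 38) ∧ (Rel G a b a x → InB (ψ x)) ∧ (Rel G a c a x → InC (ψ x)) := fun x =>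
      ⟨fun e => e ▸ ψa, fun hx => by rw [ψB hx]; exact hτB _ (hιB x hx), fun hx => by rw [ψC hx]; exact hγC x hx⟩
    have no1 : ¬ InB (38 : Pt) := nbr.2.2.2.2.2.2.1
    have no2 : ¬ InC (38 : Pt) := fun h => ((inC_iff _).1 h).2 rfl
    have no3 : ∀ {z : Pt}, InB z → ¬ InC z := fun h h' => ((inC_iff _).1 h').1 h
    rcases S.data.cases x with hx | hx | hx <;> rcases S.data.cases y with hy | hy | hy
    · exact hx.trans hy.symm
    · exact absurd ((e.symm.trans ((hkey x).1 hx)) ▸ (hkey y).2.1 hy) no1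
    · exact absurd ((e.symm.trans ((hkey x).1 hx)) ▸ (hkey y).2.2 hy) no2
    · exact absurd ((e.trans ((hkey y).1 hy)) ▸ (hkey x).2.1 hx) no1
    · rw [ψB hx, ψB hy] at e
      rw [← hι x hx, ← hι y hy, τ.injective e]
    · exact absurd ((hkey y).2.2 hy) (no3 (e ▸ (hkey x).2.1 hx))
    · exact absurd ((e.trans ((hkey y).1 hy)) ▸ (hkey x).2.2 hx) no2
    · exact absurd ((hkey x).2.2 hx) (no3 (e.symm ▸ (hkey y).2.1 hy))
    · rw [ψC hx, ψC hy] at e
      exact hγinj x y hx hy e
  let Ψ : Ω ≃ Pt := Equiv.ofBijective ψ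
    ((Fintype.bijective_iff_injective_and_card ψ).2 ⟨hinjψ, by rw [S.data.hcard, Fintype.card_fin]⟩)
  have hB : ∀ z, InB (ψ z) ↔ Rel G a b a z := by
    intro z
    refine ⟨fun h => ?_, fun h => by rw [ψB h]; exact hτB _ (hιB z h)⟩
    rcases S.data.cases z with e | e | e
    · rw [e, ψa] at h; exact absurd h nbr.2.2.2.2.2.2.1
    · exact e
    · rw [ψC e] at h; exact absurd h ((inC_iff _).1 (hγC z e)).1
  have hCB : ∀ {w z}, Rel G a c a w → Rel G a b a z → (A (ψ w) (ψ z) ↔ Rel G a b w z) := fun {w z} hw hz => by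
    rw [ψC hw, ψB hz, hγA w hw _ (hιB z hz), hι z hz]
  have hcommon : ∀ {w z}, Rel G a c a w → Rel G a c a z →
      (univ.filter fun v => InB v ∧ A (ψ w) v ∧ A (ψ z) v).card =
        (univ.filter fun x => Rel G a b a x ∧ Rel G a b w x ∧ Rel G a b z x).card := fun {w z} hw hz =>
    (Finset.card_equiv Ψ fun x => by
      simp only [mem_filter, mem_univ, true_and]
      exact ⟨fun ⟨h, h1, h2⟩ => ⟨(hB x).2 h, (hCB hw h).2 h1, (hCB hz h).2 h2⟩, fun ⟨h, h1, h2⟩ =>
        ⟨(hB x).1 h, (hCB hw ((hB x).1 h)).1 h1, (hCB hz ((hB x).1 h)).1 h2⟩⟩).symm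
  have hCC : ∀ {w z}, Rel G a c a w → Rel G a c a z → (A (ψ w) (ψ z) ↔ Rel G a b w z) := by
    intro w z hw hz
    have hfw : ∀ {z}, Rel G a c a z → Rel G a b w z → A (ψ w) (ψ z) := fun {z} hz hr => by
      refine (meet (ψC hw ▸ hγC w hw) (ψC hz ▸ hγC z hz) fun e => S.data.ne_of_rel hr (hinjψ e.symm)).2 ?_
      rw [hcommon hw hz]
      have hle := card_le_card (s := univ.filter fun x => Rel G a b a x ∧ Rel G a b w x ∧ Rel G a b z x)
        (t := univ.filter fun x => Rel G a b w x ∧ Rel G a b z x) fun x hx => by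
          simp only [mem_filter, mem_univ, true_and] at hx ⊢
          exact hx.2
      rwa [(S.data.card_common hr).trans S.data.lam_mu.1] at hle
    refine ⟨fun hA => ?_, hfw hz⟩
    have h56 : (univ.filter fun x => Rel G a c a x ∧ Rel G a b w x).card = 56 := by
      have h := S.data.split fun x => Rel G a b w x
      rw [S.data.card_out, if_neg fun e => S.data.disjoint_BC (S.data.symm e) hw] at h
      rw [(S.data.card_common hw).trans S.data.lam_mu.2] at h
      omega
    have hsub : (univ.filter fun x => Rel G a c a x ∧ Rel G a b w x).image Ψ ⊆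
        univ.filter fun u => InC u ∧ A (ψ w) u := by
      intro u hu
      simp only [mem_image, mem_filter, mem_univ, true_and] at hu ⊢
      obtain ⟨x, ⟨hx, hr⟩, rfl⟩ := hu
      exact ⟨(show InC (ψ x) from ψC hx ▸ hγC x hx), hfw hx hr⟩
    have heq := eq_of_subset_of_card_le hsub (by
      rw [card_image_of_injective _ Ψ.injective, h56, C_card (ψC hw ▸ hγC w hw)])
    have hmem : ψ z ∈ univ.filter fun u => InC u ∧ A (ψ w) u :=
      mem_filter.2 ⟨mem_univ _, ψC hz ▸ hγC z hz, hA⟩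
    rw [← heq, mem_image] at hmem
    obtain ⟨x, hx, e⟩ := hmem
    obtain rfl : x = z := hinjψ e
    exact (mem_filter.1 hx).2.2
  refine ⟨Ψ, ψa, fun x y => ?_⟩
  show A (ψ x) (ψ y) ↔ _
  have hax : ∀ y, A (ψ a) (ψ y) ↔ Rel G a b a y := fun y => by rw [ψa, nbr.1, hB]
  have sy : ∀ {p q}, (A (ψ p) (ψ q) ↔ Rel G a b p q) → (A (ψ q) (ψ p) ↔ Rel G a b q p) := fun {p q} h =>
    ⟨fun e => S.data.symm (h.1 (A_symm e)), fun e => A_symm (h.2 (S.data.symm e))⟩
  rcases S.data.cases x with hx | hx | hx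
  · rw [hx]; exact hax y
  · rcases S.data.cases y with hy | hy | hy
    · rw [hy]; exact sy (hax x)
    · rw [ψB hx, ψB hy, hτA _ _ (hιB x hx) (hιB y hy), ← S.adjB hβ (hιB x hx) (hιB y hy), hι x hx, hι y hy]
    · exact sy (hCB hy hx)
  · rcases S.data.cases y with hy | hy | hy
    · rw [hy]; exact sy (hax x)
    · exact hCB hx hy
    · exact hCC hx hy

end Setup

end Cfsg.Lib.PermAut.MclRecog
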