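import Cfsg.Agent.Lib.PermAut.MclRecog.Graph
import Cfsg.Agent.S0283

/-!
# The neighbours of a point: identification of the two point stabilisers
-/

set_option autoImplicit false
set_option linter.unusedSectionVars false
set_option maxRecDepth 100000

namespace Cfsg.Lib.PermAut.MclRecog

open Cfsg Equiv MulAction

theorem card_stab_C {y : Pt} (hy : InC y) : Nat.card ↥(MclPsu.KS ⊓ stabilizer (Perm Pt) y) = 20160 := by
  have h := card_mul_stab MclPsu.KS y (S := {z | InC z}) fun z => by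
    refine ⟨fun hz => ?_, fun ⟨k, hk, e⟩ => e ▸ (stab_C (KS_le_aut hk) (KS_fix hk) y).2 hy⟩
    obtain ⟨g, hg, rfl⟩ := orbits.2.1 y hy
    obtain ⟨k, hk, rfl⟩ := orbits.2.1 z hz
    exact ⟨k * g⁻¹, mul_mem hk (inv_mem hg), by simp⟩
  rw [card_KS, show {z : Pt | InC z}.ncard = 162 by
    rw [← card_C, ← Set.ncard_coe_finset]; congr 1; ext; simp] at h
  exact Nat.eq_of_mul_eq_mul_left (show 0 < 162 by norm_num) (h.trans (by norm_num))

theorem clique_le {u : Pt} (hu : InB u) {O : Set Pt} (hO : ∀ x ∈ O, InB x) (huO : u ∈ O)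
    (hcl : ∀ x ∈ O, ∀ y ∈ O, x ≠ y → A x y) : O.ncard ≤ 4 := by
  by_cases h : ∀ v ∈ O, v = u
  · have : O ⊆ {u} := fun v hv => h v hv
    exact le_trans (Set.ncard_le_ncard this) (by simp)
  push_neg at h
  obtain ⟨v, hv, hne⟩ := h
  have hsub : O ⊆ ↑(insert u (insert v (Finset.univ.filter fun w => InB w ∧ A u w ∧ A v w))) := fun w hw => by
    simp only [Finset.coe_insert, Finset.coe_filter, Set.mem_insert_iff, Finset.mem_univ, true_and]
    by_cases e1 : w = u
    · exact Or.inl e1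
    by_cases e2 : w = v
    · exact Or.inr (Or.inl e2)
    exact Or.inr (Or.inr ⟨hO w hw, hcl u huO w hw (Ne.symm e1), hcl v hv w hw (Ne.symm e2)⟩)
  refine le_trans (Set.ncard_le_ncard hsub) ?_
  rw [Set.ncard_coe_finset]
  refine le_trans (Finset.card_insert_le _ _) (Nat.succ_le_succ (le_trans (Finset.card_insert_le _ _) ?_))
  rw [two_common hu (hO v hv) (hcl u huO v hv hne.symm)]

/-- A subgroup of the order of the stabiliser of a neighbour is such a stabiliser. -/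
theorem sub_29160 {H : Subgroup (Perm Pt)} (hle : H ≤ MclPsu.KS) (hc : Nat.card H = 29160) :
    ∃ L, InB L ∧ H = MclPsu.KS ⊓ stabilizer (Perm Pt) L := by
  classical
  haveI : Fact (Nat.Prime 3) := ⟨Nat.prime_three⟩
  haveI : Fact (Nat.Prime 5) := ⟨Nat.prime_five⟩
  obtain ⟨P0, hP0⟩ := Sylow.exists_subgroup_card_pow_prime 3 (G := H) (n := 6) (by rw [hc]; norm_num)
  set P : Subgroup (Perm Pt) := P0.map H.subtype with hP
  have hPH : P ≤ H := Subgroup.map_subtype_le P0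
  have hPc : Nat.card P = 729 := by
    rw [hP, Subgroup.card_map_of_injective H.subtype_injective, hP0]; norm_num
  have hbound : ∀ {R S : Subgroup (Perm Pt)}, R ≤ S → Nat.card R ∣ Nat.card S := fun h => Subgroup.card_dvd_of_le h
  -- the fixed points
  obtain ⟨L, hL, hLB⟩ : ∃ L, (∀ g ∈ P, g L = L) ∧ InB L := by
    have hp : IsPGroup 3 P := IsPGroup.of_card (n := 6) (by rw [hPc]; norm_num)
    have hm := hp.card_modEq_card_fixedPoints Pt
    rw [Nat.card_fin] at hm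
    have h38 : (38 : Pt) ∈ fixedPoints P Pt := fun g => KS_fix (hle (hPH g.2))
    obtain ⟨L, hLf, hne⟩ : ∃ L ∈ fixedPoints P Pt, L ≠ 38 := by
      by_contra hno
      push_neg at hno
      have e : fixedPoints P Pt = {38} := Set.eq_singleton_iff_unique_mem.2 ⟨h38, hno⟩
      have h1 : Nat.card (fixedPoints P Pt) = 1 := by
        rw [← Nat.card_congr (Equiv.setCongr e).symm]
        simp
      rw [h1] at hm
      exact absurd hm (by decide)
    have hfix : ∀ g ∈ P, g L = L := fun g hg => hLf ⟨g, hg⟩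
    refine ⟨L, hfix, ?_⟩
    rcases cases L with e | e | e
    · exact absurd e hne
    · exact e
    · have := hbound (R := P) (S := MclPsu.KS ⊓ stabilizer (Perm Pt) L) fun g hg => ⟨hle (hPH hg), hfix g hg⟩
      rw [hPc, card_stab_C e] at this
      exact absurd this (by norm_num)
  set O : Set Pt := {y | ∃ g ∈ H, g L = y} with hO
  have hOc := card_mul_stab H L (S := O) fun y => Iff.rfl
  rw [hc] at hOc
  obtain ⟨t, ht⟩ : 729 ∣ Nat.card ↥(H ⊓ stabilizer (Perm Pt) L) := by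
    rw [← hPc]; exact hbound fun g hg => ⟨hPH hg, hL g hg⟩
  have hO40 : O.ncard * t = 40 := by rw [ht] at hOc; ring_nf at hOc ⊢; omega
  have hOB : ∀ y ∈ O, InB y := by
    rintro y ⟨g, hg, rfl⟩
    exact (stab_B (KS_le_aut (hle hg)) (KS_fix (hle hg)) L).2 hLB
  -- orbits of the three-group
  have hPorb : ∀ y ∈ O, y ≠ L → A L y ∧ 4 ≤ O.ncard := by
    intro y hy hne
    set T : Set Pt := {z | ∃ g ∈ P, g y = z} with hT
    have hTc := card_mul_stab P y (S := T) fun z => Iff.rfl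
    rw [hPc] at hTc
    have hsub : T ⊆ O \ {L} := by
      rintro _ ⟨g, hg, rfl⟩
      obtain ⟨k, hk, rfl⟩ := hy
      exact ⟨⟨g * k, mul_mem (hPH hg) hk, rfl⟩, fun e => hne (g.injective ((e : g (k L) = L).trans (hL g hg).symm))⟩
    have hTle := Set.ncard_le_ncard hsub
    rw [Set.ncard_sdiff (show ({L} : Set Pt) ⊆ O from Set.singleton_subset_iff.2 ⟨1, one_mem H, rfl⟩), Set.ncard_singleton] at hTle
    have hO40' : O.ncard ≤ 40 := Nat.le_of_dvd (by norm_num) ⟨t, hO40.symm⟩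
    have hd : Nat.card ↥(P ⊓ stabilizer (Perm Pt) y) ∣
        Nat.card ↥(MclPsu.KS ⊓ stabilizer (Perm Pt) L ⊓ stabilizer (Perm Pt) y) :=
      hbound fun g hg => ⟨⟨hle (hPH hg.1), hL g hg.1⟩, hg.2⟩
    have h729 : Nat.card ↥(P ⊓ stabilizer (Perm Pt) y) ∣ 729 := Dvd.intro_left _ hTc
    by_cases hA : A L y
    · rw [(card_stab_pair hLB (hOB y hy)).1 hA] at hd
      have : Nat.card ↥(P ⊓ stabilizer (Perm Pt) y) ∣ 243 := (Nat.dvd_gcd hd h729).trans (by norm_num)
      have h243 := Nat.le_of_dvd (by norm_num) this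
      refine ⟨hA, ?_⟩
      by_contra hlt
      have : T.ncard * Nat.card ↥(P ⊓ stabilizer (Perm Pt) y) ≤ 2 * 243 := Nat.mul_le_mul (by omega) h243
      omega
    · rw [(card_stab_pair hLB (hOB y hy)).2 hne hA] at hd
      have : Nat.card ↥(P ⊓ stabilizer (Perm Pt) y) ∣ 9 := (Nat.dvd_gcd hd h729).trans (by norm_num)
      have h9 := Nat.le_of_dvd (by norm_num) this
      have : T.ncard * Nat.card ↥(P ⊓ stabilizer (Perm Pt) y) ≤ 39 * 9 := Nat.mul_le_mul (by omega) h9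
      omega
  have hcl : ∀ x ∈ O, ∀ y ∈ O, x ≠ y → A x y := by
    rintro _ ⟨g, hg, rfl⟩ _ ⟨k, hk, rfl⟩ hne
    have hm := hPorb _ ⟨g⁻¹ * k, mul_mem (inv_mem hg) hk, rfl⟩ fun e => hne (by
      conv_lhs => rw [← (e : (g⁻¹ * k) L = L)]
      simp)
    have := (KS_le_aut (hle hg) _ _).2 hm.1
    simpa using this
  have hLO : L ∈ O := ⟨1, one_mem _, rfl⟩
  have hO4 := clique_le hLB hOB hLO hcl
  have hone : ∀ y ∈ O, y = L := by
    intro y hy
    by_contra hne
    have h4 : O.ncard = 4 := le_antisymm hO4 (hPorb y hy hne).2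
    rw [h4] at hOc
    have hst : Nat.card ↥(H ⊓ stabilizer (Perm Pt) L) = 7290 := by omega
    obtain ⟨x, hx⟩ := exists_prime_orderOf_dvd_card' (G := ↥(H ⊓ stabilizer (Perm Pt) L)) 5 (by rw [hst]; norm_num)
    have hxo : orderOf (x : Perm Pt) = 5 := by rw [Subgroup.orderOf_coe, hx]
    set Z := Subgroup.zpowers (x : Perm Pt) with hZ
    have hZle : Z ≤ H ⊓ stabilizer (Perm Pt) L := Subgroup.zpowers_le.2 x.2
    have hTc := card_mul_stab Z y (S := {z | ∃ g ∈ Z, g y = z}) fun z => Iff.rfl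
    rw [hZ, Nat.card_zpowers, hxo, ← hZ] at hTc
    have hsub : {z | ∃ g ∈ Z, g y = z} ⊆ O \ {L} := by
      rintro _ ⟨g, hg, rfl⟩
      obtain ⟨k, hk, rfl⟩ := hy
      exact ⟨⟨g * k, mul_mem (hZle hg).1 hk, rfl⟩,
        fun e => hne (g.injective ((e : g (k L) = L).trans (hZle hg).2.symm))⟩
    have hTle := Set.ncard_le_ncard hsub
    rw [Set.ncard_sdiff (by simpa using hLO), Set.ncard_singleton, h4] at hTle
    have hd := hbound (R := Z ⊓ stabilizer (Perm Pt) y)
      (S := MclPsu.KS ⊓ stabilizer (Perm Pt) L ⊓ stabilizer (Perm Pt) y)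
      fun g hg => ⟨⟨hle (hZle hg.1).1, (hZle hg.1).2⟩, hg.2⟩
    rw [(card_stab_pair hLB (hOB y hy)).1 (hPorb y hy hne).1] at hd
    have h5 : {z | ∃ g ∈ Z, g y = z}.ncard = 1 :=
      ((Nat.dvd_prime Nat.prime_five).1 (Dvd.intro _ hTc)).resolve_right (by omega)
    rw [h5, one_mul] at hTc
    rw [hTc] at hd
    exact absurd hd (by norm_num)
  refine ⟨L, hLB, Subgroup.eq_of_le_of_card_ge (fun g hg => ⟨hle hg, hone _ ⟨g, hg, rfl⟩⟩) ?_⟩
  rw [card_stab_B hLB, hc]

/-- A rank three group with a model of its point stabiliser. -/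
structure Setup {Ω : Type*} [Fintype Ω] [DecidableEq Ω] (G : Subgroup (Perm Ω)) (a b c : Ω) : Type _ where
  data : Data G a b c
  ρ : ↥MclPsu.KS →* Perm Ω
  inj : Function.Injective ρ
  mem : ∀ k, ρ k ∈ G
  fix : ∀ k, ρ k a = a
  surj : ∀ g ∈ G, g a = a → ∃ k, ρ k = g

namespace Setup

variable {Ω : Type*} [Fintype Ω] [DecidableEq Ω] {G : Subgroup (Perm Ω)} {a b c : Ω} (S : Setup G a b c)
include S

theorem rel_rho (d : Ω) (k : ↥MclPsu.KS) (x y : Ω) : Rel G a d (S.ρ k x) (S.ρ k y) ↔ Rel G a d x y :=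
  S.data.rel_smul d (S.mem k) x y

theorem rel_rho' (d : Ω) (k : ↥MclPsu.KS) (y : Ω) : Rel G a d a (S.ρ k y) ↔ Rel G a d a y := by
  have := S.rel_rho d k a y
  rwa [S.fix k] at this

theorem orbit_rho (d y : Ω) : Rel G a d a y ↔ ∃ k, S.ρ k d = y := by
  constructor
  · rintro ⟨g, hg, h1, h2⟩
    obtain ⟨k, rfl⟩ := S.surj g hg h1
    exact ⟨k, h2⟩
  · rintro ⟨k, rfl⟩
    exact ⟨S.ρ k, S.mem k, S.fix k, rfl⟩

/-- The bijection of the two sets of 112 neighbours. -/
theorem exists_beta : ∃ β : Pt → Ω, (∀ (k : ↥MclPsu.KS) (v : Pt), InB v → β ((k : Perm Pt) v) = S.ρ k (β v)) ∧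
    (∀ v, InB v → Rel G a b a (β v)) ∧ (∀ u v, InB u → InB v → β u = β v → u = v) ∧
    ∀ y, Rel G a b a y → ∃ v, InB v ∧ β v = y := by
  classical
  set H : Subgroup ↥MclPsu.KS := (stabilizer (Perm Ω) b).comap S.ρ with hH
  have hHc : Nat.card H = 29160 := by
    have h := card_mul_stab S.ρ.range b (S := {y | Rel G a b a y}) fun y => by
      refine (S.orbit_rho b y).trans ⟨fun ⟨k, e⟩ => ⟨_, ⟨k, rfl⟩, e⟩, ?_⟩
      rintro ⟨_, ⟨k, rfl⟩, e⟩
      exact ⟨k, e⟩
    have hR : Nat.card S.ρ.range = 3265920 := by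
      rw [← Nat.card_congr (MonoidHom.ofInjective S.inj).toEquiv, card_KS]
    have e : (H.map S.ρ) = S.ρ.range ⊓ stabilizer (Perm Ω) b := Subgroup.map_comap_eq _ _
    rw [← e, Subgroup.card_map_of_injective S.inj, hR] at h
    have h112 : {y | Rel G a b a y}.ncard = 112 := by
      rw [← S.data.orbB]
      congr 1
      ext y
      exact (S.data.orbit_iff b y).symm
    rw [h112] at h
    omega
  obtain ⟨L, hL, hLe⟩ := sub_29160 (H := H.map MclPsu.KS.subtype) (Subgroup.map_subtype_le H)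
    (by rw [Subgroup.card_map_of_injective MclPsu.KS.subtype_injective, hHc])
  have hfix : ∀ k : ↥MclPsu.KS, (k : Perm Pt) L = L ↔ S.ρ k b = b := fun k => by
    constructor
    · intro e
      have : (k : Perm Pt) ∈ H.map MclPsu.KS.subtype := by rw [hLe]; exact ⟨k.2, e⟩
      obtain ⟨k', hk', e'⟩ := this
      obtain rfl : k' = k := Subtype.ext e'
      exact hk'
    · intro e
      have : (k : Perm Pt) ∈ H.map MclPsu.KS.subtype := ⟨k, e, rfl⟩
      rw [hLe] at this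
      exact this.2
  have htr : ∀ v, InB v → ∃ k : ↥MclPsu.KS, (k : Perm Pt) L = v := fun v hv => by
    obtain ⟨g, hg, rfl⟩ := orbits.1 L hL
    obtain ⟨k, hk, rfl⟩ := orbits.1 v hv
    exact ⟨⟨k * g⁻¹, mul_mem hk (inv_mem hg)⟩, by simp⟩
  have hwd : ∀ k k' : ↥MclPsu.KS, (k : Perm Pt) L = (k' : Perm Pt) L ↔ S.ρ k b = S.ρ k' b := fun k k' => by
    have := hfix (k'⁻¹ * k)
    rw [map_mul, map_inv, Perm.mul_apply, Subgroup.coe_mul, Subgroup.coe_inv, Perm.mul_apply, Perm.inv_eq_iff_eq,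
      Perm.inv_eq_iff_eq] at this
    exact ⟨fun e => (this.1 e), fun e => this.2 e⟩
  refine ⟨fun v => if h : ∃ k : ↥MclPsu.KS, (k : Perm Pt) L = v then S.ρ h.choose b else a, fun k v hv => ?_,
    fun v hv => ?_, fun u v hu hv e => ?_, fun y hy => ?_⟩
  · have h := htr v hv
    have h' : ∃ k' : ↥MclPsu.KS, (k' : Perm Pt) L = (k : Perm Pt) v :=
      ⟨k * h.choose, by rw [Subgroup.coe_mul, Perm.mul_apply, h.choose_spec]⟩
    dsimp only
    rw [dif_pos h, dif_pos h', ← Perm.mul_apply, ← map_mul]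
    exact (hwd _ _).1 (by rw [h'.choose_spec, Subgroup.coe_mul, Perm.mul_apply, h.choose_spec])
  · dsimp only
    rw [dif_pos (htr v hv)]
    exact (S.orbit_rho b _).2 ⟨_, rfl⟩
  · simp only [dif_pos (htr u hu), dif_pos (htr v hv)] at e
    rw [← (htr u hu).choose_spec, ← (htr v hv).choose_spec]
    exact (hwd _ _).2 e
  · obtain ⟨k, rfl⟩ := (S.orbit_rho b y).1 hy
    have h : ∃ k' : ↥MclPsu.KS, (k' : Perm Pt) L = (k : Perm Pt) L := ⟨k, rfl⟩
    refine ⟨(k : Perm Pt) L, (stab_B (KS_le_aut k.2) (KS_fix k.2) L).2 hL, ?_⟩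
    dsimp only
    rw [dif_pos h]
    exact (hwd _ _).1 h.choose_spec

end Setup

end Cfsg.Lib.PermAut.MclRecog
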