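import Cfsg.Agent.Lib.PermAut.MclRecog.Iso

/-!
# Recognition of the McLaughlin group as a rank three group
-/

set_option autoImplicit false
set_option linter.unusedSectionVars false
set_option maxRecDepth 100000

namespace Cfsg.Lib.PermAut.MclRecog

open Cfsg Equiv MulAction

theorem KS_simple : IsSimpleGroup ↥MclPsu.KS := by
  obtain ⟨e⟩ := MclPsu.ks_equiv
  haveI : IsSimpleGroup (PSU 4 MclPsu.R9 3) :=
    Cfsg.Agent.S0283.result (q := 3) (by rw [MclPsu.card_r9]; norm_num) 4 (by norm_num) (by norm_num)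
  exact e.isSimpleGroup

/-- A simple subgroup of the order of the point stabiliser is the point stabiliser. -/
theorem eq_KS (σ : ↥MclPsu.KS →* Perm Pt) (hi : Function.Injective σ) (hX : ∀ k, σ k ∈ X38) :
    σ.range = MclPsu.KS := by
  classical
  haveI := KS_simple
  have hKX : MclPsu.KS ≤ X38 := fun k hk => ⟨KS_le_aut hk, KS_fix hk⟩
  let σ' : ↥MclPsu.KS →* ↥X38 := σ.codRestrict X38 hX
  set K' : Subgroup ↥X38 := MclPsu.KS.subgroupOf X38 with hK'
  let f : ↥MclPsu.KS →* Perm (↥X38 ⧸ K') := (MulAction.toPermHom ↥X38 (↥X38 ⧸ K')).comp σ'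
  have hidx : K'.index ≤ 8 := by
    have h := K'.card_mul_index
    rw [show Nat.card K' = 3265920 by
      rw [hK', Nat.card_congr (Subgroup.subgroupOfEquivOfLe hKX).toEquiv, card_KS]] at h
    have := card_X38
    omega
  have hker : f.ker = ⊤ := by
    refine ((MonoidHom.normal_ker f).eq_bot_or_eq_top).resolve_left fun e => ?_
    have hle := Nat.card_le_card_of_injective f ((MonoidHom.ker_eq_bot_iff f).1 e)
    rw [card_KS, Nat.card_perm, ← Subgroup.index] at hle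
    have := hle.trans (Nat.factorial_le hidx)
    exact absurd this (by decide)
  have hle : σ.range ≤ MclPsu.KS := by
    rintro _ ⟨k, rfl⟩
    have hk : f k = 1 := MonoidHom.mem_ker.1 (hker ▸ Subgroup.mem_top k)
    have h1 : σ' k • ((1 : ↥X38) : ↥X38 ⧸ K') = ((1 : ↥X38) : ↥X38 ⧸ K') := by
      have := DFunLike.congr_fun hk ((1 : ↥X38) : ↥X38 ⧸ K')
      exact this
    rw [show σ' k • ((1 : ↥X38) : ↥X38 ⧸ K') = ((σ' k * 1 : ↥X38) : ↥X38 ⧸ K') from rfl, mul_one,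
      QuotientGroup.eq, mul_one, inv_mem_iff] at h1
    exact h1
  refine Subgroup.eq_of_le_of_card_ge hle ?_
  rw [← Nat.card_congr (MonoidHom.ofInjective hi).toEquiv]

theorem M_stab {k : Perm Pt} (hk : k ∈ M) (h : k 38 = 38) : k ∈ MclPsu.KS := ⟨hk, h⟩

/-- A transitive group of automorphisms with such a point stabiliser is the certified group. -/
theorem eq_M {H : Subgroup (Perm Pt)} (hA : H ≤ AutA) (htr : ∀ z, ∃ g ∈ H, g 38 = z)
    (σ : ↥MclPsu.KS →* Perm Pt) (hi : Function.Injective σ) (hσ : ∀ g, g ∈ H ∧ g 38 = 38 ↔ ∃ k, σ k = g) :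
    H = M := by
  have hX : ∀ k, σ k ∈ X38 := fun k => ⟨hA ((hσ _).2 ⟨k, rfl⟩).1, ((hσ _).2 ⟨k, rfl⟩).2⟩
  have hKH : ∀ k ∈ MclPsu.KS, k ∈ H := fun k hk => by
    rw [← eq_KS σ hi hX] at hk
    obtain ⟨j, rfl⟩ := hk
    exact ((hσ _).2 ⟨j, rfl⟩).1
  have hHK : ∀ k ∈ H, k 38 = 38 → k ∈ MclPsu.KS := fun k hk h => by
    rw [← eq_KS σ hi hX]
    obtain ⟨j, rfl⟩ := (hσ k).1 ⟨hk, h⟩
    exact ⟨j, rfl⟩
  -- the other point stabilisers
  have hpt : ∀ z, ∀ k ∈ M, k z = z → k ∈ H := by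
    intro z k hk hkz
    obtain ⟨g, hg, rfl⟩ := htr z
    obtain ⟨m, hm, hmg⟩ := M_trans (g 38)
    set t : Perm Pt := m⁻¹ * g with ht
    have htA : t ∈ AutA := mul_mem (inv_mem (M_le_aut hm)) (hA hg)
    have ht38 : t 38 = 38 := by rw [ht, Perm.mul_apply, ← hmg]; simp
    have he := eq_KS ((MulAut.conj t).toMonoidHom.comp σ) ((MulAut.conj t).injective.comp hi) fun j =>
      ⟨(show t * σ j * t⁻¹ ∈ AutA from mul_mem (mul_mem htA (hX j).1) (inv_mem htA)), by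
        show (t * σ j * t⁻¹) 38 = 38
        have e : t⁻¹ 38 = 38 := by conv_lhs => rw [← ht38]; simp
        simp only [Perm.mul_apply] at *
        rw [e, ((hσ _).2 ⟨j, rfl⟩).2, ht38]⟩
    have hk' : m⁻¹ * k * m ∈ MclPsu.KS := M_stab (mul_mem (mul_mem (inv_mem hm) hk) hm) (by
      simp only [Perm.mul_apply]
      rw [hmg, hkz, ← hmg]
      simp)
    rw [← he] at hk'
    obtain ⟨j, hj⟩ := hk'
    have e : k = g * σ j * g⁻¹ := by
      have hj' : t * σ j * t⁻¹ = m⁻¹ * k * m := hj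
      rw [ht] at hj'
      calc k = m * (m⁻¹ * k * m) * m⁻¹ := by group
        _ = _ := by rw [← hj']; group
    rw [e]
    exact mul_mem (mul_mem hg ((hσ _).2 ⟨j, rfl⟩).1) (inv_mem hg)
  -- transitivity of the intersection
  have hD : ∀ y, ∃ k ∈ H ⊓ M, k 38 = y := by
    intro y
    by_cases hy : y = 38
    · exact ⟨1, one_mem _, by simp [hy]⟩
    obtain ⟨z, -, hz, hyz⟩ := common hy
    obtain ⟨m, hm, rfl⟩ := M_trans z
    have inB : ∀ {x}, A (m 38) x → InB (m⁻¹ x) := fun {x} hx => by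
      rw [← nbr.1, ← M_le_aut hm]
      simpa using hx
    obtain ⟨p, hp, e1⟩ := orbits.1 _ (inB (A_symm hz))
    obtain ⟨q, hq, e2⟩ := orbits.1 _ (inB (A_symm hyz))
    set k : Perm Pt := m * (q * p⁻¹) * m⁻¹ with hk
    have hkM : k ∈ M :=
      mul_mem (mul_mem hm (mul_mem (KS_le_M hq) (inv_mem (KS_le_M hp)))) (inv_mem hm)
    have hfix : (q * p⁻¹) 38 = 38 := KS_fix (mul_mem hq (inv_mem hp))
    refine ⟨k, ⟨hpt (m 38) k hkM (by rw [hk]; simp only [Perm.mul_apply, Perm.inv_def, Equiv.symm_apply_apply] at *; rw [hfix]), hkM⟩, ?_⟩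
    have e3 : p⁻¹ (m⁻¹ 38) = L0 := by rw [← e1]; simp
    rw [hk]
    simp only [Perm.mul_apply] at *
    rw [e3, e2]
    simp
  refine le_antisymm (fun g hg => ?_) fun g hg => ?_
  · obtain ⟨k, hk, e⟩ := hD (g 38)
    have := hHK (k⁻¹ * g) (mul_mem (inv_mem hk.1) hg) (by rw [Perm.mul_apply, ← e]; simp)
    have := mul_mem hk.2 (KS_le_M this)
    simpa using this
  · obtain ⟨k, hk, e⟩ := hD (g 38)
    have := hKH (k⁻¹ * g) (M_stab (mul_mem (inv_mem hk.2) hg) (by rw [Perm.mul_apply, ← e]; simp))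
    have := mul_mem hk.1 this
    simpa using this

/-- A rank three group of this kind is the McLaughlin group. -/
theorem nonempty_equiv {Ω : Type*} [Fintype Ω] [DecidableEq Ω] {G : Subgroup (Perm Ω)} {a b c : Ω}
    (S : Setup G a b c) : Nonempty (G ≃* ↥Spor.McL) := by
  obtain ⟨β, h1, h2, h3, h4⟩ := S.exists_beta
  obtain ⟨Ψ, hΨa, hΨ⟩ := S.exists_model (β := β) ⟨h1, h2, h3, h4⟩
  let η : Perm Ω ≃* Perm Pt := Ψ.permCongrHom
  have hη : ∀ g z, η g z = Ψ (g (Ψ.symm z)) := fun g z => rfl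
  set H : Subgroup (Perm Pt) := G.map η.toMonoidHom with hH
  have hA : H ≤ AutA := by
    rintro _ ⟨g, hg, rfl⟩ x y
    show A (η g x) (η g y) ↔ A x y
    rw [hη, hη, hΨ, S.data.rel_smul b hg, ← hΨ]
    simp
  have hs : Ψ.symm 38 = a := by rw [← hΨa]; simp
  have htr : ∀ z, ∃ g ∈ H, g 38 = z := fun z => by
    obtain ⟨g, hg, e⟩ := S.data.trans (Ψ.symm z)
    exact ⟨η g, ⟨g, hg, rfl⟩, by rw [hη, hs, e]; simp⟩
  have heq := eq_M hA htr (η.toMonoidHom.comp S.ρ) (η.injective.comp S.inj) fun g => by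
    constructor
    · rintro ⟨⟨g0, hg0, rfl⟩, h38⟩
      have hga : g0 a = a := by
        have h' : Ψ (g0 (Ψ.symm 38)) = 38 := h38
        rw [hs, ← hΨa] at h'
        exact Ψ.injective h'
      obtain ⟨k, rfl⟩ := S.surj g0 hg0 hga
      exact ⟨k, rfl⟩
    · rintro ⟨k, rfl⟩
      refine ⟨⟨S.ρ k, S.mem k, rfl⟩, ?_⟩
      show Ψ (S.ρ k (Ψ.symm 38)) = 38
      rw [hs, S.fix, hΨa]
  obtain ⟨iM⟩ := iso_M
  exact ⟨(η.subgroupMap G).trans ((MulEquiv.subgroupCongr heq).trans iM.symm)⟩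

end Cfsg.Lib.PermAut.MclRecog
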