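import Cfsg.Agent.Lib.PermAut.MclRecog.Checks

/-!
# The search for hemisystems
-/

set_option autoImplicit false
set_option maxRecDepth 100000
set_option Elab.async false

namespace Cfsg.Lib.PermAut.MclRecog

theorem front_len : front.length = 270 := by decide +kernel

theorem chunk0 : chunkB 0 = true := by decide +kernel

theorem chunk1 : chunkB 1 = true := by decide +kernel

theorem chunk2 : chunkB 2 = true := by decide +kernel

theorem chunk3 : chunkB 3 = true := by decide +kernel

theorem chunk4 : chunkB 4 = true := by decide +kernel

theorem chunk5 : chunkB 5 = true := by decide +kernel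

theorem chunk6 : chunkB 6 = true := by decide +kernel

theorem chunk7 : chunkB 7 = true := by decide +kernel

theorem chunk8 : chunkB 8 = true := by decide +kernel

theorem chunks : ∀ k < 9, chunkB k = true := by
  intro k hk
  interval_cases k
  exacts [chunk0, chunk1, chunk2, chunk3, chunk4, chunk5, chunk6, chunk7, chunk8]

end Cfsg.Lib.PermAut.MclRecog
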