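import Cfsg.Agent.Lib.PermAut.MclPsu
import Cfsg.Agent.Lib.PermAut.MclRecog.Search

/-!
# The graph on the 275 points of the McLaughlin group

Orbits of the point stabiliser, the four orbits of hemisystems among the neighbours of a point, and
a bound on the automorphisms fixing a point.
-/

set_option autoImplicit false
set_option maxRecDepth 100000

namespace Cfsg.Lib.PermAut.MclRecog

open Cfsg Equiv MulAction

/-- The points. -/
abbrev Pt := Fin 275

instance : NeZero (275 : ℕ) := ⟨by norm_num⟩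

/-- Adjacency. -/
abbrev A (x y : Pt) : Prop := adj (x : ℕ) (y : ℕ) = true

/-- The neighbours of the base point. -/
abbrev InB (x : Pt) : Prop := bMask.testBit (x : ℕ) = true

/-- The points at distance two. -/
abbrev InC (x : Pt) : Prop := inC (x : ℕ) = true

/-- The certified group. -/
noncomputable def M : Subgroup (Perm Pt) := Mcl.cert.K

/-- The automorphisms of the graph. -/
def AutA : Subgroup (Perm Pt) where
  carrier := {g | ∀ x y, A (g x) (g y) ↔ A x y}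
  mul_mem' := fun {g h} hg hh x y => (hg _ _).trans (hh x y)
  one_mem' := fun _ _ => Iff.rfl
  inv_mem' := fun {g} hg x y => by
    have := hg (g⁻¹ x) (g⁻¹ y)
    simpa using this.symm

theorem presB_spec {T : ℕ} (hT : Rep 9 (toP 9 275 T) T) (h : presB T = true) : toP 9 275 T ∈ AutA := by
  intro x y
  simp only [presB, allBelowB_iff, force_eq, beq_iff_eq] at h
  show adj _ _ = true ↔ _
  unfold adj
  rw [hT x, hT y, ← h x x.isLt y y.isLt]
  rfl

theorem M_le_aut : M ≤ AutA := by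
  have G := Cert.gen_of_check Mcl.gen_check
  refine (Subgroup.closure_le _).2 ?_
  rintro x (rfl | rfl | rfl)
  · exact presB_spec G.a pres_a
  · exact presB_spec G.c pres_c
  · exact presB_spec G.d pres_d

theorem KS_le_M : MclPsu.KS ≤ M := fun _ h => h.1

theorem KS_fix {k : Perm Pt} (h : k ∈ MclPsu.KS) : k 38 = 38 := h.2

theorem KS_le_aut : MclPsu.KS ≤ AutA := KS_le_M.trans M_le_aut

theorem card_KS : Nat.card MclPsu.KS = 3265920 := by
  rw [MclPsu.ks_eq, MclPsu.stab_valid.card, MclPsu.sizes.1]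

theorem card_M : Nat.card M = 275 * 3265920 := by
  obtain ⟨-, hK⟩ := Mcl.mcl_model
  show Nat.card Mcl.cert.K = _
  rw [hK]
  decide +kernel

theorem iso_M : Nonempty (↥Spor.McL ≃* M) := Mcl.mcl_model.1

theorem M_trans (x : Pt) : ∃ g ∈ M, g 38 = x := by
  have G := Cert.gen_of_check Mcl.gen_check
  have hc := MclPsu.cover_ok
  simp only [List.all_eq_true, List.mem_range, List.any_eq_true, Nat.beq_eq] at hc
  obtain ⟨T, hT, hx⟩ := hc x x.isLt
  have htr : Mcl.cert.tr.headD [] ∈ Mcl.cert.tr := by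
    have hh : Mcl.cert.tr = Mcl.cert.tr.headD [] :: Mcl.cert.tr.tail := by decide +kernel
    rw [hh]; exact List.mem_cons_self ..
  obtain ⟨hr, hK⟩ := G.rep _ htr T hT
  exact ⟨_, hK, Fin.ext ((hr (38 : Pt)).trans hx)⟩

/-- The facts about the neighbours of the base point. -/
theorem nbr : (∀ y : Pt, A 38 y ↔ InB y) ∧ (∀ y : Pt, InB y → (y : ℕ) ∈ bl) ∧
    (∀ v ∈ bl, v < 275 ∧ bMask.testBit v = true) ∧ (∀ v ∈ bl, adj v 38 = true) ∧ bl.Nodup ∧ bl.length = 112 ∧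
    ¬ InB (38 : Pt) ∧ ((List.range 275).filter inC).length = 162 := by
  have h := nbr_ok
  simp only [nbrB, Bool.and_eq_true, allBelowB_iff, force_eq, List.all_eq_true, List.any_eq_true,
    Bool.or_eq_true, Bool.not_eq_true', beq_iff_eq, Nat.beq_eq, Nat.blt, Nat.ble_eq] at h
  obtain ⟨⟨⟨⟨⟨⟨h1, h2⟩, h3⟩, h4⟩, h5⟩, h6⟩, h7⟩ := h
  refine ⟨fun y => ?_, fun y hy => ?_, fun v hv => (h3 v hv).1, fun v hv => (h3 v hv).2,
    nodup_of_nodupB h4, h5, ?_, h7⟩
  · show adj 38 (y : ℕ) = true ↔ _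
    rw [adj, h1 y y.isLt]
  · obtain ⟨v, hv, hvy⟩ := (h2 y y.isLt).resolve_left fun e => Bool.false_ne_true (e.symm.trans hy)
    exact hvy ▸ hv
  · show ¬ bMask.testBit 38 = true
    rw [h6]; exact Bool.false_ne_true

theorem inC_iff (x : Pt) : InC x ↔ ¬ InB x ∧ x ≠ 38 := by
  show inC (x : ℕ) = true ↔ ¬ bMask.testBit (x : ℕ) = true ∧ _
  simp only [inC, Bool.and_eq_true, Bool.not_eq_true', ← Bool.not_eq_true, Nat.beq_eq, ne_eq]
  exact and_congr_right fun _ => not_congr (Fin.ext_iff (b := (38 : Pt))).symm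

theorem cases (x : Pt) : x = 38 ∨ InB x ∨ InC x := by
  by_cases h : x = 38
  · exact Or.inl h
  by_cases hB : InB x
  · exact Or.inr (Or.inl hB)
  · exact Or.inr (Or.inr ((inC_iff x).2 ⟨hB, h⟩))

theorem A_symm {x y : Pt} (h : A x y) : A y x := by
  obtain ⟨g, hg, rfl⟩ := M_trans x
  have hy : A 38 (g⁻¹ y) := (M_le_aut (inv_mem hg) (g 38) y).2 h |> fun e => by simpa using e
  have hb := (nbr.1 _).1 hy
  have := nbr.2.2.2.1 _ (nbr.2.1 _ hb)
  have h2 := (M_le_aut hg (g⁻¹ y) 38).2 this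
  simpa using h2

theorem A_irrefl (x : Pt) : ¬ A x x := by
  obtain ⟨g, hg, rfl⟩ := M_trans x
  exact fun h => nbr.2.2.2.2.2.2.1 ((nbr.1 38).1 ((M_le_aut hg 38 38).1 h))

theorem stab_B {g : Perm Pt} (hg : g ∈ AutA) (h38 : g 38 = 38) (x : Pt) : InB (g x) ↔ InB x := by
  rw [← nbr.1, ← nbr.1]
  conv_lhs => rw [← h38]
  exact hg 38 x

theorem stab_C {g : Perm Pt} (hg : g ∈ AutA) (h38 : g 38 = 38) (x : Pt) : InC (g x) ↔ InC x := by
  rw [inC_iff, inC_iff, stab_B hg h38]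
  exact and_congr_right fun _ => not_congr ⟨fun e => g.injective (e.trans h38.symm), fun e => e ▸ h38⟩

/-- A filter of the list of the 112. -/
theorem length_filter (p : ℕ → Bool) :
    (bl.filter p).length = (Finset.univ.filter fun z : Pt => InB z ∧ p (z : ℕ) = true).card := by
  obtain ⟨-, h2, h3, -, hnd, -⟩ := nbr
  rw [← List.toFinset_card_of_nodup (hnd.filter p),
    ← Finset.card_image_of_injective (f := fun z : Pt => (z : ℕ))
      (Finset.univ.filter fun z : Pt => InB z ∧ p (z : ℕ) = true) Fin.val_injective]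
  congr 1
  ext v
  simp only [List.mem_toFinset, List.mem_filter, Finset.mem_image, Finset.mem_filter, Finset.mem_univ, true_and]
  constructor
  · rintro ⟨hv, hp⟩
    exact ⟨⟨v, (h3 v hv).1⟩, ⟨(h3 v hv).2, hp⟩, rfl⟩
  · rintro ⟨z, ⟨hz, hp⟩, rfl⟩
    exact ⟨h2 z hz, hp⟩

theorem card_B : (Finset.univ.filter fun z : Pt => InB z).card = 112 := by
  have h := length_filter fun _ => true
  rw [List.filter_eq_self.2 (by simp), nbr.2.2.2.2.2.1] at h
  rw [h]
  simp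

theorem card_C : (Finset.univ.filter fun z : Pt => InC z).card = 162 := by
  have hu : (Finset.univ : Finset Pt) = insert 38 ((Finset.univ.filter fun z => InB z) ∪
      Finset.univ.filter fun z => InC z) := by
    ext z
    simp only [Finset.mem_univ, Finset.mem_insert, Finset.mem_union, Finset.mem_filter, true_and, true_iff]
    exact cases z
  have h := congrArg Finset.card hu
  rw [Finset.card_insert_of_notMem, Finset.card_union_of_disjoint, card_B, Finset.card_univ, Fintype.card_fin] at h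
  · omega
  · rw [Finset.disjoint_left]
    intro z hz hz'
    simp only [Finset.mem_filter, Finset.mem_univ, true_and] at hz hz'
    exact ((inC_iff z).1 hz').1 hz
  · simp only [Finset.mem_union, Finset.mem_filter, Finset.mem_univ, true_and]
    rintro (h | h)
    · exact nbr.2.2.2.2.2.2.1 h
    · exact ((inC_iff _).1 h).2 rfl

/-- The table of a letter. -/
def gTab (i : ℕ) : ℕ := if i = 0 then MclPsu.stabSub.g0 else MclPsu.stabSub.g1

theorem gTab_spec (i : ℕ) : Rep 9 (toP 9 275 (gTab i)) (gTab i) ∧ toP 9 275 (gTab i) ∈ MclPsu.KS := by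
  unfold gTab
  rw [MclPsu.ks_eq, Sub.grp]
  split
  · exact ⟨MclPsu.stab_valid.g0, Subgroup.subset_closure (by simp)⟩
  · exact ⟨MclPsu.stab_valid.g1, Subgroup.subset_closure (by simp)⟩

theorem word_spec (w : List ℕ) : ∃ k ∈ MclPsu.KS, ∀ x : Pt, (k x : ℕ) = ev 9 (w.map gTab) x := by
  refine ⟨((w.map gTab).map (toP 9 275)).prod, Subgroup.list_prod_mem _ fun g hg => ?_, ev_rep fun T hT => ?_⟩
  · simp only [List.mem_map] at hg
    obtain ⟨_, ⟨i, -, rfl⟩, rfl⟩ := hg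
    exact (gTab_spec i).2
  · obtain ⟨i, -, rfl⟩ := List.mem_map.1 hT
    exact (gTab_spec i).1

/-- The first neighbour and its two companions, and a point at distance two. -/
def L0 : Pt := ⟨l0, by decide⟩

/-- A neighbour of `L0` among the 112. -/
def L1 : Pt := ⟨l1, by decide⟩

/-- A non-neighbour of `L0` among the 112. -/
def L2 : Pt := ⟨l2, by decide⟩

/-- A point at distance two. -/
def C0 : Pt := ⟨c0, by decide⟩

theorem base_pts : InB L0 ∧ InB L1 ∧ InB L2 ∧ InC C0 ∧ A L0 L1 ∧ ¬ A L0 L2 ∧ L0 ≠ L2 := by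
  decide +kernel

theorem edge_two : (bl.filter fun v => adj l0 v && adj l1 v).length = 2 ∧
    (bl.filter fun v => adj l0 v).length = 30 ∧
    (((List.range 275).filter inC).filter fun v => adj c0 v).length = 56 ∧
    (bl.filter fun v => adj c0 v).length = 56 := by decide +kernel

theorem orbits :
    (∀ v : Pt, InB v → ∃ k ∈ MclPsu.KS, k L0 = v) ∧ (∀ v : Pt, InC v → ∃ k ∈ MclPsu.KS, k C0 = v) ∧
    (∀ v : Pt, InB v → A L0 v → ∃ k ∈ MclPsu.KS, k L0 = L0 ∧ k L1 = v) ∧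
    (∀ v : Pt, InB v → v ≠ L0 → ¬ A L0 v → ∃ k ∈ MclPsu.KS, k L0 = L0 ∧ k L2 = v) := by
  have h := orb_ok
  simp only [orbB, wordsB, Bool.and_eq_true, List.all_eq_true, List.any_eq_true, Bool.or_eq_true,
    Bool.not_eq_true', Nat.beq_eq, List.mem_range] at h
  obtain ⟨⟨⟨⟨⟨⟨⟨⟨⟨⟨⟨⟨⟨⟨hB, hC⟩, hN⟩, hF⟩, cB⟩, cC⟩, cNF⟩, -⟩, -⟩, -⟩, -⟩, -⟩, -⟩, -⟩, -⟩ := h
  obtain ⟨hbl, -⟩ := And.intro nbr.2.1 trivial
  refine ⟨fun v hv => ?_, fun v hv => ?_, fun v hv hadj => ?_, fun v hv hne hadj => ?_⟩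
  · obtain ⟨e, he, hev⟩ := cB _ (hbl v hv)
    obtain ⟨k, hk, hkw⟩ := word_spec e.2
    exact ⟨k, hk, Fin.ext (((hkw L0).trans (hB e he).1).trans hev)⟩
  · obtain ⟨e, he, hev⟩ := (cC v v.isLt).resolve_left fun e => Bool.false_ne_true (e.symm.trans hv)
    obtain ⟨k, hk, hkw⟩ := word_spec e.2
    exact ⟨k, hk, Fin.ext (((hkw C0).trans (hC e he).1).trans hev)⟩
  · have h1 := (cNF _ (hbl v hv)).resolve_left fun e => A_irrefl L0 (by
      have e' : v = L0 := Fin.ext e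
      rwa [e'] at hadj)
    rw [if_pos (show adj l0 (v : ℕ) = true from hadj)] at h1
    simp only [List.any_eq_true, Nat.beq_eq] at h1
    obtain ⟨e, he, hev⟩ := h1
    obtain ⟨k, hk, hkw⟩ := word_spec e.2
    exact ⟨k, hk, Fin.ext ((hkw L0).trans ((hN e he).2 l0 (by simp))), Fin.ext (((hkw L1).trans (hN e he).1).trans hev)⟩
  · have h1 := (cNF _ (hbl v hv)).resolve_left fun e => hne (Fin.ext e)
    rw [if_neg (show ¬ adj l0 (v : ℕ) = true from hadj)] at h1
    simp only [List.any_eq_true, Nat.beq_eq] at h1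
    obtain ⟨e, he, hev⟩ := h1
    obtain ⟨k, hk, hkw⟩ := word_spec e.2
    exact ⟨k, hk, Fin.ext ((hkw L0).trans ((hF e he).2 l0 (by simp))), Fin.ext (((hkw L2).trans (hF e he).1).trans hev)⟩

/-- Orbit and stabiliser inside a subgroup. -/
theorem card_mul_stab {Ω : Type*} [Fintype Ω] [DecidableEq Ω] (H : Subgroup (Perm Ω)) (x : Ω) {S : Set Ω}
    (hS : ∀ y, y ∈ S ↔ ∃ h ∈ H, h x = y) :
    S.ncard * Nat.card ↥(H ⊓ stabilizer (Perm Ω) x) = Nat.card H := by
  have hO : S = orbit H x := by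
    ext y
    rw [hS]
    exact ⟨fun ⟨h, hh, e⟩ => ⟨⟨h, hh⟩, e⟩, fun ⟨h, e⟩ => ⟨h, h.2, e⟩⟩
  have hstab : stabilizer H x = (stabilizer (Perm Ω) x).subgroupOf H := by
    ext h; rfl
  rw [← (stabilizer H x).card_mul_index, index_stabilizer, hO, hstab, mul_comm,
    ← Subgroup.inf_subgroupOf_left, Nat.card_congr (Subgroup.subgroupOfEquivOfLe inf_le_left).toEquiv]

theorem card_stab_B {v : Pt} (hv : InB v) : Nat.card ↥(MclPsu.KS ⊓ stabilizer (Perm Pt) v) = 29160 := by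
  have h := card_mul_stab MclPsu.KS v (S := {y | InB y}) fun y => by
    refine ⟨fun hy => ?_, fun ⟨k, hk, e⟩ => e ▸ (stab_B (KS_le_aut hk) (KS_fix hk) v).2 hv⟩
    obtain ⟨g, hg, rfl⟩ := orbits.1 v hv
    obtain ⟨k, hk, rfl⟩ := orbits.1 y hy
    exact ⟨k * g⁻¹, mul_mem hk (inv_mem hg), by simp⟩
  rw [card_KS, show {y : Pt | InB y}.ncard = 112 by
    rw [← card_B, ← Set.ncard_coe_finset]; congr 1; ext; simp] at h
  exact Nat.eq_of_mul_eq_mul_left (show 0 < 112 by norm_num) (h.trans (by norm_num))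

theorem trans_near {u v w : Pt} (hu : InB u) (hv : InB v) (hw : InB w) (h1 : A u v) (h2 : A u w) :
    ∃ k ∈ MclPsu.KS, k u = u ∧ k v = w := by
  obtain ⟨g, hg, rfl⟩ := orbits.1 u hu
  have hA := KS_le_aut hg
  have hinv : ∀ {z : Pt}, InB z → A (g L0) z → InB (g⁻¹ z) ∧ A L0 (g⁻¹ z) := fun {z} hz hzA =>
    ⟨(stab_B (inv_mem hA) (by conv_lhs => rw [← KS_fix hg]; simp) z).2 hz,
      (hA _ _).1 (by simpa using hzA)⟩
  obtain ⟨p, hp, p0, p1⟩ := orbits.2.2.1 _ (hinv hv h1).1 (hinv hv h1).2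
  obtain ⟨q, hq, q0, q1⟩ := orbits.2.2.1 _ (hinv hw h2).1 (hinv hw h2).2
  refine ⟨g * q * p⁻¹ * g⁻¹, mul_mem (mul_mem (mul_mem hg hq) (inv_mem hp)) (inv_mem hg), ?_, ?_⟩
  · have e0 : p⁻¹ L0 = L0 := by conv_lhs => rw [← p0]; simp
    simp only [Perm.mul_apply, Perm.inv_def, Equiv.symm_apply_apply] at e0 ⊢
    rw [e0, q0]
  · have e1 : p⁻¹ (g⁻¹ v) = L1 := by rw [← p1]; simp
    simp only [Perm.mul_apply] at e1 ⊢
    rw [e1, q1]
    simp

theorem trans_far {u v w : Pt} (hu : InB u) (hv : InB v) (hw : InB w) (hv0 : v ≠ u) (hw0 : w ≠ u)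
    (h1 : ¬ A u v) (h2 : ¬ A u w) : ∃ k ∈ MclPsu.KS, k u = u ∧ k v = w := by
  obtain ⟨g, hg, rfl⟩ := orbits.1 u hu
  have hA := KS_le_aut hg
  have hinv : ∀ {z : Pt}, InB z → z ≠ g L0 → ¬ A (g L0) z →
      InB (g⁻¹ z) ∧ g⁻¹ z ≠ L0 ∧ ¬ A L0 (g⁻¹ z) := fun {z} hz hne hzA =>
    ⟨(stab_B (inv_mem hA) (by conv_lhs => rw [← KS_fix hg]; simp) z).2 hz,
      fun e => hne (by rw [← e]; simp), fun e => hzA (by simpa using (hA _ _).2 e)⟩
  obtain ⟨a1, a2, a3⟩ := hinv hv hv0 h1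
  obtain ⟨b1, b2, b3⟩ := hinv hw hw0 h2
  obtain ⟨p, hp, p0, p1⟩ := orbits.2.2.2 _ a1 a2 a3
  obtain ⟨q, hq, q0, q1⟩ := orbits.2.2.2 _ b1 b2 b3
  refine ⟨g * q * p⁻¹ * g⁻¹, mul_mem (mul_mem (mul_mem hg hq) (inv_mem hp)) (inv_mem hg), ?_, ?_⟩
  · have e0 : p⁻¹ L0 = L0 := by conv_lhs => rw [← p0]; simp
    simp only [Perm.mul_apply, Perm.inv_def, Equiv.symm_apply_apply] at e0 ⊢
    rw [e0, q0]
  · have e1 : p⁻¹ (g⁻¹ v) = L2 := by rw [← p1]; simp
    simp only [Perm.mul_apply] at e1 ⊢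
    rw [e1, q1]
    simp

theorem near_card {u : Pt} (hu : InB u) : (Finset.univ.filter fun v => InB v ∧ A u v).card = 30 := by
  obtain ⟨g, hg, rfl⟩ := orbits.1 u hu
  have h := length_filter fun v => adj l0 v
  rw [edge_two.2.1] at h
  rw [h]
  refine (Finset.card_equiv g fun v => ?_).symm
  simp only [Finset.mem_filter, Finset.mem_univ, true_and]
  exact Iff.and (stab_B (KS_le_aut hg) (KS_fix hg) v).symm (KS_le_aut hg L0 v).symm

theorem two_common {u v : Pt} (hu : InB u) (hv : InB v) (h : A u v) :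
    (Finset.univ.filter fun w => InB w ∧ A u w ∧ A v w).card = 2 := by
  obtain ⟨g, hg, rfl⟩ := orbits.1 u hu
  have hL1 : InB (g L1) := (stab_B (KS_le_aut hg) (KS_fix hg) L1).2 base_pts.2.1
  obtain ⟨k, hk, k0, k1⟩ := trans_near hu hL1 hv ((KS_le_aut hg _ _).2 base_pts.2.2.2.2.1) h
  have h2 := length_filter fun w => adj l0 w && adj l1 w
  rw [edge_two.1] at h2
  rw [h2]
  have hkg := mul_mem hk hg
  refine (Finset.card_equiv (k * g) fun w => ?_).symm
  simp only [Finset.mem_filter, Finset.mem_univ, true_and, Bool.and_eq_true]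
  refine Iff.and (stab_B (KS_le_aut hkg) (KS_fix hkg) w).symm (Iff.and ?_ ?_)
  · have := (KS_le_aut hkg L0 w).symm
    rwa [Perm.mul_apply, k0] at this
  · have := (KS_le_aut hkg L1 w).symm
    rwa [Perm.mul_apply, k1] at this

theorem card_stab_pair {u v : Pt} (hu : InB u) (hv : InB v) :
    (A u v → Nat.card ↥(MclPsu.KS ⊓ stabilizer (Perm Pt) u ⊓ stabilizer (Perm Pt) v) = 972) ∧
    (v ≠ u → ¬ A u v → Nat.card ↥(MclPsu.KS ⊓ stabilizer (Perm Pt) u ⊓ stabilizer (Perm Pt) v) = 360) := by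
  have hst := card_stab_B hu
  have hfix : ∀ {k : Perm Pt}, k ∈ MclPsu.KS ⊓ stabilizer (Perm Pt) u → k ∈ MclPsu.KS ∧ k u = u :=
    fun hk => ⟨hk.1, hk.2⟩
  constructor
  · intro h
    have := card_mul_stab (MclPsu.KS ⊓ stabilizer (Perm Pt) u) v (S := {y | InB y ∧ A u y}) fun y => by
      constructor
      · rintro ⟨hy, hA⟩
        obtain ⟨k, hk, k0, k1⟩ := trans_near hu hv hy h hA
        exact ⟨k, ⟨hk, k0⟩, k1⟩
      · rintro ⟨k, hk, rfl⟩
        obtain ⟨hk1, hk2⟩ := hfix hk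
        exact ⟨(stab_B (KS_le_aut hk1) (KS_fix hk1) v).2 hv, hk2 ▸ (KS_le_aut hk1 u v).2 h⟩
    rw [hst, show {y : Pt | InB y ∧ A u y}.ncard = 30 by
      rw [← near_card hu, ← Set.ncard_coe_finset]; congr 1; ext; simp] at this
    exact Nat.eq_of_mul_eq_mul_left (show 0 < 30 by norm_num) (this.trans (by norm_num))
  · intro hne h
    have := card_mul_stab (MclPsu.KS ⊓ stabilizer (Perm Pt) u) v (S := {y | InB y ∧ y ≠ u ∧ ¬ A u y}) fun y => by
      constructor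
      · rintro ⟨hy, hy0, hA⟩
        obtain ⟨k, hk, k0, k1⟩ := trans_far hu hv hy hne hy0 h hA
        exact ⟨k, ⟨hk, k0⟩, k1⟩
      · rintro ⟨k, hk, rfl⟩
        obtain ⟨hk1, hk2⟩ := hfix hk
        exact ⟨(stab_B (KS_le_aut hk1) (KS_fix hk1) v).2 hv, fun e => hne (k.injective (e.trans hk2.symm)),
          fun e => h ((KS_le_aut hk1 u v).1 (by rwa [hk2]))⟩
    have hc : {y : Pt | InB y ∧ y ≠ u ∧ ¬ A u y}.ncard = 81 := by
      have e : (Finset.univ.filter fun y : Pt => InB y ∧ y ≠ u ∧ ¬ A u y) =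
          ((Finset.univ.filter fun y : Pt => InB y) \ Finset.univ.filter fun y : Pt => InB y ∧ A u y).erase u := by
        ext y
        simp only [Finset.mem_filter, Finset.mem_univ, true_and, Finset.mem_erase, Finset.mem_sdiff, not_and]
        exact ⟨fun ⟨a, b, c⟩ => ⟨b, a, fun _ => c⟩, fun ⟨b, a, c⟩ => ⟨a, b, c a⟩⟩
      have hh : {y : Pt | InB y ∧ y ≠ u ∧ ¬ A u y} =
          ↑(Finset.univ.filter fun y : Pt => InB y ∧ y ≠ u ∧ ¬ A u y) := by ext; simp
      rw [hh, e, Set.ncard_coe_finset, Finset.card_erase_of_mem (Finset.mem_sdiff.2 ⟨Finset.mem_filter.2 ⟨Finset.mem_univ u, hu⟩, fun e => A_irrefl u (Finset.mem_filter.1 e).2.2⟩),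
        Finset.card_sdiff_of_subset (fun z hz => by
          simp only [Finset.mem_filter, Finset.mem_univ, true_and] at hz ⊢
          exact hz.1), card_B, near_card hu]
    rw [hst, hc] at this
    exact Nat.eq_of_mul_eq_mul_left (show 0 < 81 by norm_num) (this.trans (by norm_num))

theorem rows :
    (∀ y : Pt, InC y → ∃ e ∈ cls0, e.1 = hmask y) ∧ (∀ e ∈ cls0, ∃ y : Pt, InC y ∧ e.1 = hmask y) ∧
    (∀ y u : Pt, InC y → InC u → hmask (y : ℕ) = hmask (u : ℕ) → y = u) ∧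
    (∀ y : Pt, InC y → ∃ v : Pt, InB v ∧ A y v) ∧ ∀ v : Pt, InB v → ∃ w : Pt, InB w ∧ A v w := by
  have h := rowsC_ok
  simp only [rowsC, Bool.and_eq_true, List.all_eq_true, List.any_eq_true, Nat.beq_eq, List.mem_filter,
    List.mem_range] at h
  obtain ⟨⟨⟨⟨h1, h2⟩, h3⟩, h4⟩, h5⟩ := h
  refine ⟨fun y hy => h1 y ⟨y.isLt, hy⟩, fun e he => ?_, fun y u hy hu e => ?_, fun y hy => ?_, fun v hv => ?_⟩
  · obtain ⟨y, ⟨hy, hC⟩, e'⟩ := h2 e he
    exact ⟨⟨y, hy⟩, hC, e'⟩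
  · exact Fin.ext (List.inj_on_of_nodup_map (nodup_of_nodupB h3) (List.mem_filter.2 ⟨List.mem_range.2 y.isLt, hy⟩)
      (List.mem_filter.2 ⟨List.mem_range.2 u.isLt, hu⟩) e)
  · obtain ⟨v, hv, e⟩ := h4 y ⟨y.isLt, hy⟩
    exact ⟨⟨v, (nbr.2.2.1 v hv).1⟩, (nbr.2.2.1 v hv).2, e⟩
  · obtain ⟨w, hw, e⟩ := h5 _ (nbr.2.1 v hv)
    exact ⟨⟨w, (nbr.2.2.1 w hw).1⟩, (nbr.2.2.1 w hw).2, e⟩

theorem hmask_bit (y v : Pt) (hv : InB v) : (hmask (y : ℕ)).testBit (v : ℕ) = true ↔ A y v := by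
  show (row (y : ℕ) &&& bMask).testBit (v : ℕ) = true ↔ _
  rw [Nat.testBit_land, show bMask.testBit (v : ℕ) = true from hv, Bool.and_true]
  rfl

/-- The meets with rows decide adjacency among the 162. -/
theorem meet {y u : Pt} (hy : InC y) (hu : InC u) (hne : u ≠ y) :
    A y u ↔ (Finset.univ.filter fun v => InB v ∧ A y v ∧ A u v).card ≤ 30 := by
  obtain ⟨g, hg, rfl⟩ := orbits.2.1 y hy
  have hA := KS_le_aut hg
  obtain ⟨u, rfl⟩ : ∃ z, g z = u := ⟨g⁻¹ u, by simp⟩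
  have hu' : InC u := (stab_C hA (KS_fix hg) u).1 hu
  have h := meet_ok
  simp only [meetB, force_eq, List.all_eq_true, List.mem_filter, List.mem_range, Bool.or_eq_true,
    Nat.beq_eq, beq_iff_eq] at h
  have h1 := (h u ⟨u.isLt, hu'⟩).resolve_left fun e => hne (congrArg g (Fin.ext e))
  rw [hA]
  show adj c0 (u : ℕ) = true ↔ _
  rw [adj, h1, Nat.ble_eq, length_filter]
  refine iff_of_eq (congrArg (· ≤ 30) (Finset.card_equiv g fun v => ?_))
  simp only [Finset.mem_filter, Finset.mem_univ, true_and, stab_B hA (KS_fix hg) v, hA C0 v, hA u v]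
  refine and_congr_right fun hv => ?_
  show (hmask c0 &&& row (u : ℕ)).testBit (v : ℕ) = true ↔ _
  rw [Nat.testBit_land, Bool.and_eq_true]
  exact Iff.and (hmask_bit C0 v hv) Iff.rfl

theorem C_card {y : Pt} (hy : InC y) : (Finset.univ.filter fun u => InC u ∧ A y u).card = 56 := by
  obtain ⟨g, hg, rfl⟩ := orbits.2.1 y hy
  have e : ((Finset.univ.filter fun u : Pt => InC u ∧ A C0 u).image fun z : Pt => (z : ℕ)) =
      (((List.range 275).filter inC).filter fun v => adj c0 v).toFinset := by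
    ext v
    simp only [List.mem_toFinset, List.mem_filter, List.mem_range, Finset.mem_image, Finset.mem_filter,
      Finset.mem_univ, true_and]
    constructor
    · rintro ⟨z, ⟨h1, h2⟩, rfl⟩
      exact ⟨⟨z.isLt, h1⟩, h2⟩
    · rintro ⟨⟨hv, h1⟩, h2⟩
      exact ⟨⟨v, hv⟩, ⟨h1, h2⟩, rfl⟩
  have h := congrArg Finset.card e
  rw [Finset.card_image_of_injective _ Fin.val_injective,
    List.toFinset_card_of_nodup ((List.nodup_range.filter _).filter _), edge_two.2.2.1] at h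
  rw [← h]
  refine (Finset.card_equiv g fun v => ?_).symm
  simp only [Finset.mem_filter, Finset.mem_univ, true_and, stab_C (KS_le_aut hg) (KS_fix hg) v,
    KS_le_aut hg C0 v]

/-- Every other point has a common neighbour with the base point. -/
theorem common {y : Pt} (hy : y ≠ 38) : ∃ z, z ≠ 38 ∧ A 38 z ∧ A y z := by
  rcases cases y with h | h | h
  · exact absurd h hy
  · obtain ⟨w, hw, hA⟩ := rows.2.2.2.2 y h
    exact ⟨w, fun e => nbr.2.2.2.2.2.2.1 (e ▸ hw), (nbr.1 w).2 hw, hA⟩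
  · obtain ⟨v, hv, hA⟩ := rows.2.2.2.1 y h
    exact ⟨v, fun e => nbr.2.2.2.2.2.2.1 (e ▸ hv), (nbr.1 v).2 hv, hA⟩

end Cfsg.Lib.PermAut.MclRecog
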